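import Groth.Agent.DiagHopfLib.Descent
import Mathlib.RingTheory.Flat.FaithfullyFlat.Algebra

set_option autoImplicit false

/-!
Invariant integrals on Hopf algebras of multiplicative type.
-/

noncomputable section

universe u

open scoped TensorProduct
open Groth.Agent.TorusField Groth.Agent.DiagHopf

namespace Groth.Agent.HopfLift

variable {R : Type u} [CommRing R] {A : Type u} [CommRing A] [Bialgebra R A]

/-- A normalised two-sided invariant functional with values in an algebra. -/
structure IsIntegral (T : Type u) [CommRing T] [Algebra R T] (l : A →ₗ[R] T) : Prop where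
  one : l 1 = 1
  left : ∀ a, LinearMap.rTensor A l (Coalgebra.comul (R := R) a) = l a ⊗ₜ[R] (1 : A)
  right : ∀ a, LinearMap.rTensor A l (TensorProduct.comm R A A (Coalgebra.comul (R := R) a)) = l a ⊗ₜ[R] (1 : A)

theorem IsIntegral.eq {T : Type u} [CommRing T] [Algebra R T] {l l' : A →ₗ[R] T} (h : IsIntegral T l)
    (h' : IsIntegral T l') : l = l' := by
  refine LinearMap.ext fun a => ?_
  let μ : T ⊗[R] A →ₗ[R] T := LinearMap.mul' R T ∘ₗ LinearMap.lTensor T l'
  let μ' : T ⊗[R] A →ₗ[R] T := LinearMap.mul' R T ∘ₗ LinearMap.lTensor T l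
  have e1 := congrArg μ (h.left a)
  have e2 := congrArg μ' (h'.right a)
  simp only [μ, μ', LinearMap.comp_apply, LinearMap.lTensor_tmul, LinearMap.mul'_apply, h.one, h'.one, mul_one] at e1 e2
  rw [← e1, ← e2]
  generalize Coalgebra.comul (R := R) a = z
  induction z using TensorProduct.induction_on with
  | zero => simp
  | add p q hp hq => simp only [map_add, hp, hq]
  | tmul p q => simp [mul_comm]

theorem IsIntegral.push {T T' : Type u} [CommRing T] [Algebra R T] [CommRing T'] [Algebra R T'] {l : A →ₗ[R] T}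
    (h : IsIntegral T l) (f : T →ₐ[R] T') : IsIntegral T' (f.toLinearMap ∘ₗ l) where
  one := by simp [h.one]
  left a := by
    rw [LinearMap.rTensor_comp, LinearMap.comp_apply, h.left]
    simp
  right a := by
    rw [LinearMap.rTensor_comp, LinearMap.comp_apply, h.right]
    simp

theorem exists_algebraMap_eq_of_tmul_comm {T : Type u} [CommRing T] [Algebra R T] [Module.FaithfullyFlat R T] (t : T)
    (h : (1 : T) ⊗ₜ[R] t = t ⊗ₜ[R] (1 : T)) : ∃ r : R, algebraMap R T r = t := by
  let N := LinearMap.range (Algebra.linearMap R T)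
  suffices t ∈ N by exact this
  rw [← Submodule.Quotient.mk_eq_zero]
  apply Module.FaithfullyFlat.tensorProduct_mk_injective (A := R) (B := T) (T ⧸ N)
  rw [map_zero]
  show (1 : T) ⊗ₜ[R] N.mkQ t = 0
  rw [← LinearMap.lTensor_tmul, h, LinearMap.lTensor_tmul,
    show N.mkQ 1 = 0 from (Submodule.Quotient.mk_eq_zero N).2 ⟨1, (algebraMap R T).map_one⟩]
  exact TensorProduct.tmul_zero _ t

/-- Integrals descend along faithfully flat algebras. -/
theorem exists_integral_of_faithfullyFlat {T : Type u} [CommRing T] [Algebra R T] [Module.FaithfullyFlat R T]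
    {l : A →ₗ[R] T} (h : IsIntegral T l) : ∃ ι : A →ₗ[R] R, IsIntegral R ι := by
  have he : ∀ a, (1 : T) ⊗ₜ[R] l a = l a ⊗ₜ[R] (1 : T) := fun a =>
    LinearMap.congr_fun ((h.push (Algebra.TensorProduct.includeRight : T →ₐ[R] T ⊗[R] T)).eq
      (h.push (Algebra.TensorProduct.includeLeft : T →ₐ[R] T ⊗[R] T))) a
  choose r hr using fun a => exists_algebraMap_eq_of_tmul_comm (l a) (he a)
  have hinj : Function.Injective (algebraMap R T) := FaithfulSMul.algebraMap_injective R T
  let ι : A →ₗ[R] R :=
    { toFun := r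
      map_add' := fun a b => hinj (by rw [hr, map_add, map_add, hr, hr])
      map_smul' := fun c a => hinj (by rw [hr, map_smul, RingHom.id_apply, smul_eq_mul, map_mul, hr, Algebra.smul_def]) }
  let e : R ⊗[R] A →ₗ[R] T ⊗[R] A := LinearMap.rTensor A (Algebra.linearMap R T)
  have hl : l = Algebra.linearMap R T ∘ₗ ι := LinearMap.ext fun a => (hr a).symm
  have he' : Function.Injective e := by
    have := Module.FaithfullyFlat.tensorProduct_mk_injective (A := R) (B := T) A
    have h2 : ⇑e = (TensorProduct.mk R T A 1) ∘ (TensorProduct.lid R A) := by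
      funext z
      induction z using TensorProduct.induction_on with
      | zero => simp
      | add a b ha hb => simp only [map_add, Function.comp_apply] at ha hb ⊢; rw [ha, hb]
      | tmul s a =>
        simp [e, TensorProduct.smul_tmul', Algebra.algebraMap_eq_smul_one]
    rw [h2]
    exact this.comp (TensorProduct.lid R A).injective
  refine ⟨ι, ⟨hinj (((hr 1).trans h.one).trans (map_one (algebraMap R T)).symm), fun a => he' ?_, fun a => he' ?_⟩⟩
  · rw [← LinearMap.comp_apply e, ← LinearMap.rTensor_comp, ← hl, h.left a]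
    simp [e, ι, hr]
  · rw [← LinearMap.comp_apply e, ← LinearMap.rTensor_comp, ← hl, h.right a]
    simp [e, ι, hr]

section Split

variable {T : Type u} [CommRing T] [Algebra R T] {M : Type u} [AddCommGroup M]

/-- The weight zero coefficient of a splitting is an integral. -/
theorem exists_integral_of_split (E : Split R A M T) : ∃ l : A →ₗ[R] T, IsIntegral T l := by
  classical
  let co : T ⊗[R] A →ₗ[T] T := (Finsupp.lapply 0).comp E.e.repr.toLinearMap
  let l : A →ₗ[R] T := co.restrictScalars R ∘ₗ TensorProduct.mk R T A 1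
  have hco : ∀ t a, co (t ⊗ₜ[R] a) = t * l a := fun t a => by
    rw [show t ⊗ₜ[R] a = t • ((1 : T) ⊗ₜ[R] a) by rw [TensorProduct.smul_tmul', smul_eq_mul, mul_one], map_smul]
    rfl
  let Φ : T ⊗[R] (A ⊗[R] A) →ₗ[T] T ⊗[R] A :=
    TensorProduct.AlgebraTensorModule.lift (LinearMap.toSpanSingleton T _ (LinearMap.rTensor A l))
  let Φ' : T ⊗[R] (A ⊗[R] A) →ₗ[T] T ⊗[R] A :=
    TensorProduct.AlgebraTensorModule.lift
      (LinearMap.toSpanSingleton T _ ((LinearMap.rTensor A l) ∘ₗ (TensorProduct.comm R A A).toLinearMap))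
  have hJ : ∀ x y, Φ (J₁ R A T x * J₂ R A T y) = co x • y ∧ Φ' (J₁ R A T y * J₂ R A T x) = co x • y := by
    intro x y
    induction x using TensorProduct.induction_on with
    | zero => simp
    | add p q hp hq => simp only [map_add, add_mul, mul_add, add_smul, hp.1, hp.2, hq.1, hq.2, and_self]
    | tmul s a =>
      induction y using TensorProduct.induction_on with
      | zero => simp
      | add p q hp hq => simp only [map_add, add_mul, mul_add, smul_add, hp.1, hp.2, hq.1, hq.2, and_self]
      | tmul t b =>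
        rw [hco]
        simp [Φ, Φ', J₁, J₂, Algebra.TensorProduct.tmul_mul_tmul, TensorProduct.smul_tmul', mul_comm, mul_assoc,
          mul_left_comm]
  have hbasis : ∀ m, Φ (D R A T (E.e m)) = co (E.e m) • (1 : T ⊗[R] A) ∧
      Φ' (D R A T (E.e m)) = co (E.e m) • (1 : T ⊗[R] A) := by
    intro m
    rw [(E.gl m).1]
    refine ⟨(hJ _ _).1.trans ?_, (hJ _ _).2.trans ?_⟩ <;>
      (by_cases hm : m = 0
       · rw [hm, E.e_zero]
       · simp [co, Finsupp.single_eq_of_ne (Ne.symm hm)])
  have hall : ∀ x, Φ (D R A T x) = co x • (1 : T ⊗[R] A) ∧ Φ' (D R A T x) = co x • (1 : T ⊗[R] A) := by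
    intro x
    constructor
    · exact LinearMap.congr_fun (E.e.ext (f₁ := Φ ∘ₗ (D R A T).toLinearMap)
        (f₂ := (LinearMap.toSpanSingleton T _ (1 : T ⊗[R] A)) ∘ₗ co) fun m => (hbasis m).1) x
    · exact LinearMap.congr_fun (E.e.ext (f₁ := Φ' ∘ₗ (D R A T).toLinearMap)
        (f₂ := (LinearMap.toSpanSingleton T _ (1 : T ⊗[R] A)) ∘ₗ co) fun m => (hbasis m).2) x
  refine ⟨l, ⟨?_, fun a => ?_, fun a => ?_⟩⟩
  · show co ((1 : T) ⊗ₜ[R] (1 : A)) = 1
    rw [← Algebra.TensorProduct.one_def, ← E.e_zero]
    simp [co]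
  · refine Eq.trans ?_ ((hall ((1 : T) ⊗ₜ[R] a)).1.trans ?_)
    · simp [Φ, D]
    · rw [hco, one_mul, Algebra.TensorProduct.one_def, TensorProduct.smul_tmul', smul_eq_mul, mul_one]
  · refine Eq.trans ?_ ((hall ((1 : T) ⊗ₜ[R] a)).2.trans ?_)
    · simp [Φ', D]
    · rw [hco, one_mul, Algebra.TensorProduct.one_def, TensorProduct.smul_tmul', smul_eq_mul, mul_one]

end Split

theorem exists_integral_pi {ι : Type u} [Finite ι] {T : ι → Type u} [∀ i, CommRing (T i)] [∀ i, Algebra R (T i)]
    (l : ∀ i, A →ₗ[R] T i) (h : ∀ i, IsIntegral (T i) (l i)) : IsIntegral (∀ i, T i) (LinearMap.pi l) := by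
  classical
  haveI := Fintype.ofFinite ι
  refine ⟨funext fun i => (h i).one, fun a => ?_, fun a => ?_⟩ <;>
    refine (TensorProduct.piLeft R A T).injective (funext fun i => ?_)
  · have e : ∀ z : A ⊗[R] A, TensorProduct.piLeft R A T (LinearMap.rTensor A (LinearMap.pi l) z) i =
        LinearMap.rTensor A (l i) z := fun z => by
      induction z using TensorProduct.induction_on with
      | zero => simp
      | add p q hp hq => simp only [map_add, Pi.add_apply, hp, hq]
      | tmul p q => simp
    rw [e, (h i).left]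
    simp
  · have e : ∀ z : A ⊗[R] A, TensorProduct.piLeft R A T (LinearMap.rTensor A (LinearMap.pi l) z) i =
        LinearMap.rTensor A (l i) z := fun z => by
      induction z using TensorProduct.induction_on with
      | zero => simp
      | add p q hp hq => simp only [map_add, Pi.add_apply, hp, hq]
      | tmul p q => simp
    rw [e, (h i).right]
    simp

end Groth.Agent.HopfLift
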