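import Groth.Agent.HopfLiftLib.Weights
import Groth.Agent.ProjLib.Descent
import Mathlib.RingTheory.AdicCompletion.Basic

set_option autoImplicit false

/-!
Lifting homomorphisms into smooth groups over a complete noetherian base.
-/

noncomputable section

universe u

open scoped TensorProduct
open Groth.Agent.TorusField Groth.Agent.DiagHopf WithConv

namespace Groth.Agent.HopfLift

variable {A : Type u} [CommRing A]

section Coord

variable {B : Type u} [CommRing B] [Bialgebra A B] {T : Type u} [CommRing T] [Algebra A T] {M : Type u} [AddCommGroup M]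

/-- The weight functional. -/
def weight (E : Split A B M T) (m : M) : B →ₗ[A] T :=
  ((Finsupp.lapply m).comp E.e.repr.toLinearMap).restrictScalars A ∘ₗ TensorProduct.mk A T B 1

theorem weight_mul (E : Split A B M T) (m : M) (b : B) :
    LinearMap.mul' A T (TensorProduct.map (weight E m) (weight E m) (Coalgebra.comul (R := A) b)) = weight E m b := by
  classical
  let co : T ⊗[A] B →ₗ[T] T := (Finsupp.lapply m).comp E.e.repr.toLinearMap
  have hco : ∀ t a, co (t ⊗ₜ[A] a) = t * weight E m a := fun t a => by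
    rw [show t ⊗ₜ[A] a = t • ((1 : T) ⊗ₜ[A] a) by rw [TensorProduct.smul_tmul', smul_eq_mul, mul_one], map_smul]
    rfl
  let Φ : T ⊗[A] (B ⊗[A] B) →ₗ[T] T :=
    TensorProduct.AlgebraTensorModule.lift
      (LinearMap.toSpanSingleton T _ (LinearMap.mul' A T ∘ₗ TensorProduct.map (weight E m) (weight E m)))
  have hJ : ∀ x y, Φ (J₁ A B T x * J₂ A B T y) = co x * co y := by
    intro x y
    induction x using TensorProduct.induction_on with
    | zero => simp
    | add p q hp hq => simp only [map_add, add_mul, hp, hq]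
    | tmul s a =>
      induction y using TensorProduct.induction_on with
      | zero => simp
      | add p q hp hq => simp only [map_add, mul_add, hp, hq]
      | tmul t c =>
        rw [hco, hco]
        simp [Φ, J₁, J₂, Algebra.TensorProduct.tmul_mul_tmul]
        ring
  have hall : Φ ∘ₗ (D A B T).toLinearMap = co := E.e.ext fun n => by
    simp only [LinearMap.comp_apply, AlgHom.toLinearMap_apply]
    rw [(E.gl n).1, hJ]
    by_cases hn : n = m
    · subst hn; simp [co]
    · simp [co, Finsupp.single_eq_of_ne (Ne.symm hn)]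
  have := LinearMap.congr_fun hall ((1 : T) ⊗ₜ[A] b)
  rw [hco, one_mul] at this
  rw [← this]
  simp [Φ, D]

theorem exists_finite_support (E : Split A B M T) (b : B) : ∃ s : Finset M, ∀ m ∉ s, weight E m b = 0 :=
  ⟨(E.e.repr ((1 : T) ⊗ₜ[A] b)).support, fun _ hm => Finsupp.notMem_support_iff.1 hm⟩

theorem sum_weight (E : Split A B M T) (b : B) (s : Finset M) (hs : ∀ m ∉ s, weight E m b = 0) :
    ∑ m ∈ s, weight E m b • E.e m = (1 : T) ⊗ₜ[A] b := by
  conv_rhs => rw [← E.e.linearCombination_repr ((1 : T) ⊗ₜ[A] b)]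
  rw [Finsupp.linearCombination_apply, Finsupp.sum_of_support_subset _ (s := s)]
  · rfl
  · intro m hm
    by_contra h
    exact (Finsupp.mem_support_iff.1 hm) (hs m h)
  · exact fun m _ => zero_smul T _

/-- Base change of a weight to a level. -/
def levelWeight (E : Split A B M T) (m : M) (K : Ideal A) : (A ⧸ K) ⊗[A] B →ₗ[A] (A ⧸ K) ⊗[A] T :=
  LinearMap.lTensor (A ⧸ K) (weight E m)

theorem levelWeight_mul (E : Split A B M T) (m : M) {C : Type u} [CommRing C] [HopfAlgebra A C] {K : Ideal A}
    {f : C →ₐ[A] (A ⧸ K) ⊗[A] B} (hf : Compat B K f) (x : C) :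
    LinearMap.mul' A ((A ⧸ K) ⊗[A] T)
      (TensorProduct.map (levelWeight E m K ∘ₗ f.toLinearMap) (levelWeight E m K ∘ₗ f.toLinearMap)
        (Coalgebra.comul (R := A) x)) = levelWeight E m K (f x) := by
  let μ : B ⊗[A] B →ₗ[A] T := LinearMap.mul' A T ∘ₗ TensorProduct.map (weight E m) (weight E m)
  have h := congrArg (fun w => LinearMap.lTensor (A ⧸ K) μ (w.ofConv x)) hf
  simp only [AlgHom.convMul_apply, ofConv_toConv, AlgHom.comp_apply] at h
  have hr : ∀ y, LinearMap.lTensor (A ⧸ K) μ (lv K (Bialgebra.comulAlgHom A B) y) = levelWeight E m K y := fun y => by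
    induction y using TensorProduct.induction_on with
    | zero => simp
    | add a b ha hb => simp only [map_add, ha, hb]
    | tmul t b => simp [lv, μ, levelWeight, weight_mul]
  rw [hr] at h
  refine Eq.trans ?_ h
  have hl : ∀ u v, LinearMap.lTensor (A ⧸ K) μ (lv K (Algebra.TensorProduct.includeLeft : B →ₐ[A] B ⊗[A] B) u *
      lv K (Algebra.TensorProduct.includeRight : B →ₐ[A] B ⊗[A] B) v) =
      levelWeight E m K u * levelWeight E m K v := fun u v => by
    induction u using TensorProduct.induction_on with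
    | zero => simp
    | add a b ha hb => simp only [map_add, add_mul, ha, hb]
    | tmul s a =>
      induction v using TensorProduct.induction_on with
      | zero => simp
      | add c d hc hd => simp only [map_add, mul_add, hc, hd]
      | tmul t c => simp [lv, μ, levelWeight, Algebra.TensorProduct.tmul_mul_tmul]
  generalize Coalgebra.comul (R := A) x = w
  induction w using TensorProduct.induction_on with
  | zero => simp
  | add a b ha hb => simp only [map_add, ha, hb]
  | tmul p q => simp [hl]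

end Coord

theorem levelWeight_red {B : Type u} [CommRing B] [Bialgebra A B] {T : Type u} [CommRing T] [Algebra A T] {M : Type u}
    [AddCommGroup M] (E : Split A B M T) (m : M) {K J : Ideal A} (h : K ≤ J) (x : (A ⧸ K) ⊗[A] B) :
    red T h (levelWeight E m K x) = levelWeight E m J (red B h x) := by
  induction x using TensorProduct.induction_on with
  | zero => simp
  | add a b ha hb => simp only [map_add, ha, hb]
  | tmul t a => simp [red, levelWeight]

/-- The lifting theorem over a complete noetherian base. -/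
theorem exists_lift_of_adicComplete [IsNoetherianRing A] (I : Ideal A) [IsAdicComplete I A]
    {B : Type u} [CommRing B] [HopfAlgebra A B] {C : Type u} [CommRing C] [HopfAlgebra A C]
    [Algebra.FormallySmooth A C] [Module.Flat A C]
    {T : Type u} [CommRing T] [Algebra A T] [Module.FaithfullyFlat A T] {M : Type u} [AddCommGroup M]
    (E : Split A B M T) (φ₀ : (A ⧸ I) ⊗[A] C →ₐc[A ⧸ I] (A ⧸ I) ⊗[A] B) :
    ∃ φ : C →ₐc[A] B, ∀ c : C, φ₀ ((1 : A ⧸ I) ⊗ₜ[A] c) = (1 : A ⧸ I) ⊗ₜ[A] (φ c) := by
  classical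
  obtain ⟨l₀, hl₀⟩ := exists_integral_of_split E
  obtain ⟨ι, hι⟩ := exists_integral_of_faithfullyFlat hl₀
  let f₀ := ((φ₀ : (A ⧸ I) ⊗[A] C →ₐ[A ⧸ I] (A ⧸ I) ⊗[A] B).restrictScalars A).comp Algebra.TensorProduct.includeRight
  -- the tower
  have hone : I ≤ I ^ 2 ^ 0 := by rw [pow_zero, pow_one]
  have hle : ∀ k, I ^ 2 ^ (k + 1) ≤ I ^ 2 ^ k := fun k => Ideal.pow_le_pow_right (by rw [pow_succ]; omega)
  have hJ : ∀ k, I ^ 2 ^ k * I ^ 2 ^ k ≤ I ^ 2 ^ (k + 1) := fun k =>
    le_of_eq (by rw [← pow_add, pow_succ, Nat.mul_two])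
  choose next hnext₁ hnext₂ using fun (k : ℕ) (f : {f : C →ₐ[A] (A ⧸ I ^ 2 ^ k) ⊗[A] B // Compat B (I ^ 2 ^ k) f}) =>
    exists_step hι (hle k) (hJ k) f.1 f.2
  let F : ∀ k, {f : C →ₐ[A] (A ⧸ I ^ 2 ^ k) ⊗[A] B // Compat B (I ^ 2 ^ k) f} := fun k =>
    Nat.rec ⟨(red B hone).comp f₀, compat_red hone (compat_of_bialgHom I φ₀)⟩ (fun k f => ⟨next k f, hnext₂ k f⟩) k
  have hmono : ∀ {k l : ℕ}, k ≤ l → I ^ 2 ^ l ≤ I ^ 2 ^ k := fun h =>
    Ideal.pow_le_pow_right (Nat.pow_le_pow_right (by norm_num) h)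
  have hF : ∀ {k l : ℕ} (h : k ≤ l) (c : C), red B (hmono h) ((F l).1 c) = (F k).1 c := by
    intro k l h c
    induction h with
    | refl =>
      obtain ⟨a, ha⟩ := exists_one_tmul (I ^ 2 ^ k) ((F k).1 c)
      rw [← ha]
      rfl
    | @step l h ih =>
      rw [← ih]
      show _ = red B (hmono h) ((F l).1 c)
      rw [← AlgHom.congr_fun (hnext₁ l (F l)) c, AlgHom.comp_apply, red_red]
  -- coordinates
  haveI : Module.Free T (T ⊗[A] B) := Module.Free.of_basis E.e
  haveI : Module.Projective A B := ProjLib.projective_of_faithfullyFlat A B T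
  obtain ⟨sec, hsec⟩ := Module.projective_def.1 (inferInstance : Module.Projective A B)
  let coord : B → (B →ₗ[A] A) := fun j => (Finsupp.lapply j).comp sec
  let ext : B → (T ⊗[A] B →ₗ[T] T) := fun j =>
    TensorProduct.AlgebraTensorModule.lift (LinearMap.toSpanSingleton T _ ((Algebra.linearMap A T).comp (coord j)))
  have hext : ∀ z : T ⊗[A] B, ∃ s : Finset B, ∀ j ∉ s, ext j z = 0 := fun z => by
    induction z using TensorProduct.induction_on with
    | zero => exact ⟨∅, fun _ _ => map_zero _⟩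
    | tmul t b =>
      exact ⟨(sec b).support, fun j hj => by simp [ext, coord, Finsupp.notMem_support_iff.1 hj]⟩
    | add a b ha hb =>
      obtain ⟨sa, hsa⟩ := ha
      obtain ⟨sb, hsb⟩ := hb
      exact ⟨sa ∪ sb, fun j hj => by
        rw [map_add, hsa j fun h => hj (Finset.mem_union_left _ h), hsb j fun h => hj (Finset.mem_union_right _ h),
          add_zero]⟩
  -- uniform bound
  have hbound : ∀ c : C, ∃ s : Finset B, ∀ k, ∀ b : B, (1 : A ⧸ I ^ 2 ^ k) ⊗ₜ[A] b = (F k).1 c →
      ∀ j ∉ s, coord j b ∈ I ^ 2 ^ k := by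
    intro c
    obtain ⟨N, Q, -, ⟨q, hq⟩, hcN, hN⟩ := exists_fg_subcomodule (R := A) c
    choose rep hrep using fun x => exists_one_tmul (I ^ 2 ^ 0) ((F 0).1 x)
    choose supp hsupp using fun x => exists_finite_support E (rep x)
    let S := q.biUnion supp
    have hS : ∀ k, ∀ m ∉ S, levelWeight E m (I ^ 2 ^ k) ((F k).1 c) = 0 := by
      intro k m hm
      refine eq_zero_of_small (I := I) (r := 2 ^ k) (map_eq_bot le_rfl)
        (levelWeight E m (I ^ 2 ^ k) ∘ₗ (F k).1.toLinearMap) (fun x => levelWeight_mul E m (F k).2 x) hN ?_ c hcN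
      rw [← hq]
      intro x hx
      have hker : ∀ y ∈ q, levelWeight E m (I ^ 2 ^ k) ((F k).1 y) ∈ I • (⊤ : Submodule A _) := fun y hy => by
        rw [Ideal.smul_top_eq_map]
        have hz : red T (hmono (Nat.zero_le k)) (levelWeight E m (I ^ 2 ^ k) ((F k).1 y)) = 0 := by
          rw [levelWeight_red, hF (Nat.zero_le k), ← hrep]
          show (1 : A ⧸ I ^ 2 ^ 0) ⊗ₜ[A] weight E m (rep y) = 0
          rw [hsupp y m fun h => hm (Finset.mem_biUnion.2 ⟨y, hy, h⟩), TensorProduct.tmul_zero]
        exact Ideal.map_mono (by rw [pow_zero, pow_one]) (mem_of_red_eq_zero _ hz)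
      induction hx using Submodule.span_induction with
      | mem y hy => exact hker y hy
      | zero => rw [map_zero]; exact zero_mem _
      | add a b _ _ ha hb => rw [map_add]; exact add_mem ha hb
      | smul r a _ ha => rw [map_smul]; exact Submodule.smul_mem _ r ha
    choose js hjs using fun m : M => hext (E.e m)
    refine ⟨S.biUnion js, fun k b hb j hj => ?_⟩
    obtain ⟨s, hs⟩ := exists_finite_support E b
    have h1 := congrArg (ext j) (sum_weight E b s hs)
    rw [map_sum] at h1
    have h2 : (1 : A ⧸ I ^ 2 ^ k) ⊗ₜ[A] algebraMap A T (coord j b) = 0 := by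
      have e : algebraMap A T (coord j b) = ext j ((1 : T) ⊗ₜ[A] b) := by simp [ext]
      rw [e, ← h1, TensorProduct.tmul_sum]
      refine Finset.sum_eq_zero fun m _ => ?_
      rw [map_smul, smul_eq_mul]
      by_cases hm : m ∈ S
      · rw [hjs m j (fun h => hj (Finset.mem_biUnion.2 ⟨m, hm, h⟩)), mul_zero, TensorProduct.tmul_zero]
      · have h0 := hS k m hm
        rw [← hb] at h0
        change (1 : A ⧸ I ^ 2 ^ k) ⊗ₜ[A] weight E m b = 0 at h0
        rw [← mul_one (1 : A ⧸ I ^ 2 ^ k), ← Algebra.TensorProduct.tmul_mul_tmul, h0, zero_mul]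
    rw [← Ideal.Quotient.eq_zero_iff_mem]
    apply Module.FaithfullyFlat.tensorProduct_mk_injective (A := A) (B := T) (A ⧸ I ^ 2 ^ k)
    rw [map_zero, TensorProduct.mk_apply]
    have h3 := congrArg (TensorProduct.comm A (A ⧸ I ^ 2 ^ k) T) h2
    rw [map_zero, TensorProduct.comm_tmul, Algebra.algebraMap_eq_smul_one, TensorProduct.smul_tmul,
      Algebra.smul_def, mul_one] at h3
    exact h3
  -- separatedness
  have hsep : ∀ b : B, (∀ k, (1 : A ⧸ I ^ 2 ^ k) ⊗ₜ[A] b = 0) → b = 0 := fun b hb => by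
    have h0 : sec b = 0 := Finsupp.ext fun j => by
      refine IsHausdorff.haus (I := I) inferInstance _ fun n => ?_
      rw [SModEq.zero, smul_eq_mul, Ideal.mul_top]
      have hb' : b ∈ I ^ 2 ^ n • (⊤ : Submodule A B) := by
        rw [Ideal.smul_top_eq_map]; exact (one_tmul_eq_zero_iff _ b).1 (hb n)
      have := Submodule.mem_map_of_mem (f := coord j) hb'
      rw [Submodule.map_smul''] at this
      have := Submodule.smul_mono le_rfl le_top this
      rw [smul_eq_mul, Ideal.mul_top] at this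
      exact Ideal.pow_le_pow_right (Nat.lt_two_pow_self).le this
    rw [← hsec b, h0, map_zero]
  -- limits
  have hlim : ∀ c : C, ∃ b : B, ∀ k, (1 : A ⧸ I ^ 2 ^ k) ⊗ₜ[A] b = (F k).1 c := by
    intro c
    obtain ⟨s, hs⟩ := hbound c
    choose b hb using fun k => exists_one_tmul (I ^ 2 ^ k) ((F k).1 c)
    have hdiff : ∀ {k l : ℕ} (h : k ≤ l), ∀ j, coord j (b l) - coord j (b k) ∈ I ^ 2 ^ k := by
      intro k l h j
      have h1 : (1 : A ⧸ I ^ 2 ^ k) ⊗ₜ[A] (b l - b k) = 0 := by
        rw [TensorProduct.tmul_sub, hb k, ← hF h c, ← hb l, sub_eq_zero]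
        rfl
      have hb' : b l - b k ∈ I ^ 2 ^ k • (⊤ : Submodule A B) := by
        rw [Ideal.smul_top_eq_map]; exact (one_tmul_eq_zero_iff _ _).1 h1
      have := Submodule.mem_map_of_mem (f := coord j) hb'
      rw [Submodule.map_smul'', map_sub] at this
      have := Submodule.smul_mono le_rfl le_top this
      rwa [smul_eq_mul, Ideal.mul_top] at this
    have hL : ∀ j : B, ∃ L : A, ∀ k, coord j (b k) - L ∈ I ^ 2 ^ k := by
      intro j
      obtain ⟨L, hL⟩ := IsPrecomplete.prec (I := I) (inferInstance : IsPrecomplete I A)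
        (f := fun n => coord j (b n)) fun {m n} h => by
          rw [SModEq.sub_mem, smul_eq_mul, Ideal.mul_top, ← neg_mem_iff, neg_sub]
          exact Ideal.pow_le_pow_right (Nat.lt_two_pow_self).le (hdiff h j)
      refine ⟨L, fun k => ?_⟩
      have h1 := hL (2 ^ k)
      rw [SModEq.sub_mem, smul_eq_mul, Ideal.mul_top] at h1
      have h2 := hdiff (Nat.lt_two_pow_self).le (k := k) (l := 2 ^ k) j
      have := sub_mem h1 h2
      simpa using this
    choose L hL using hL
    let v : B →₀ A := ∑ j ∈ s, Finsupp.single j (L j)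
    refine ⟨Finsupp.linearCombination A id v, fun k => ?_⟩
    rw [← hb k, ← sub_eq_zero, ← TensorProduct.tmul_sub, one_tmul_eq_zero_iff,
      show b k = Finsupp.linearCombination A id (sec (b k)) from (hsec (b k)).symm, ← map_sub]
    have hmem : ∀ j, (v - sec (b k)) j ∈ I ^ 2 ^ k := fun j => by
      rw [Finsupp.sub_apply, Finsupp.finset_sum_apply]
      simp only [Finsupp.single_apply]
      rw [Finset.sum_ite_eq']
      by_cases hj : j ∈ s
      · rw [if_pos hj, ← neg_mem_iff, neg_sub]; exact hL j k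
      · rw [if_neg hj, zero_sub, neg_mem_iff]; exact hs k (b k) (hb k) j hj
    rw [Finsupp.linearCombination_apply]
    refine Ideal.sum_mem _ fun j _ => ?_
    show (v - sec (b k)) j • id j ∈ _
    rw [Algebra.smul_def]
    exact Ideal.mul_mem_right _ _ (Ideal.mem_map_of_mem _ (hmem j))
  choose φ hφ using hlim
  have huniq : ∀ b b' : B, (∀ k, (1 : A ⧸ I ^ 2 ^ k) ⊗ₜ[A] b = (1 : A ⧸ I ^ 2 ^ k) ⊗ₜ[A] b') → b = b' := fun b b' h => by
    rw [← sub_eq_zero]
    exact hsep _ fun k => by rw [TensorProduct.tmul_sub, h k, sub_self]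
  let φa : C →ₐ[A] B :=
    { toFun := φ
      map_one' := huniq _ _ fun k => by rw [hφ, map_one]; rfl
      map_mul' := fun x y => huniq _ _ fun k => by
        rw [hφ, map_mul, ← hφ, ← hφ, Algebra.TensorProduct.tmul_mul_tmul, one_mul]
      map_zero' := huniq _ _ fun k => by rw [hφ, map_zero, TensorProduct.tmul_zero]
      map_add' := fun x y => huniq _ _ fun k => by rw [hφ, map_add, TensorProduct.tmul_add, hφ, hφ]
      commutes' := fun r => huniq _ _ fun k => by
        rw [hφ, AlgHom.commutes]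
        exact ((Algebra.TensorProduct.includeRight : B →ₐ[A] (A ⧸ I ^ 2 ^ k) ⊗[A] B).commutes r).symm }
  -- separatedness of the square
  obtain ⟨sec₂, hsec₂⟩ := Module.projective_def.1 (inferInstance : Module.Projective A (B ⊗[A] B))
  have hsep₂ : ∀ p : B ⊗[A] B, (∀ k, (1 : A ⧸ I ^ 2 ^ k) ⊗ₜ[A] p = 0) → p = 0 := fun p hp => by
    have h0 : sec₂ p = 0 := Finsupp.ext fun j => by
      refine IsHausdorff.haus (I := I) inferInstance _ fun n => ?_
      rw [SModEq.zero, smul_eq_mul, Ideal.mul_top]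
      have hb' : p ∈ I ^ 2 ^ n • (⊤ : Submodule A (B ⊗[A] B)) := by
        rw [Ideal.smul_top_eq_map]; exact (one_tmul_eq_zero_iff _ p).1 (hp n)
      have := Submodule.mem_map_of_mem (f := (Finsupp.lapply j).comp sec₂) hb'
      rw [Submodule.map_smul''] at this
      have := Submodule.smul_mono le_rfl le_top this
      rw [smul_eq_mul, Ideal.mul_top] at this
      exact Ideal.pow_le_pow_right (Nat.lt_two_pow_self).le this
    rw [← hsec₂ p, h0, map_zero]
  obtain ⟨ψ, hψ⟩ := exists_bialgHom_of_compat φa (by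
    apply WithConv.ofConv_injective
    refine AlgHom.ext fun c => ?_
    rw [← sub_eq_zero]
    refine hsep₂ _ fun k => ?_
    rw [TensorProduct.tmul_sub, sub_eq_zero]
    let inP : B ⊗[A] B →ₐ[A] (A ⧸ I ^ 2 ^ k) ⊗[A] (B ⊗[A] B) := Algebra.TensorProduct.includeRight
    have hi : ∀ g : B →ₐ[A] B ⊗[A] B, inP.comp (g.comp φa) = (lv (I ^ 2 ^ k) g).comp (F k).1 := fun g =>
      AlgHom.ext fun x => by
        show (1 : A ⧸ I ^ 2 ^ k) ⊗ₜ[A] g (φ x) = lv (I ^ 2 ^ k) g ((F k).1 x)
        rw [← hφ x k]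
        rfl
    have h := (F k).2
    unfold Compat at h
    rw [← hi, ← hi, ← hi] at h
    have h2 := AlgHom.comp_convMul_distrib inP (toConv ((Algebra.TensorProduct.includeLeft : B →ₐ[A] B ⊗[A] B).comp φa))
      (toConv ((Algebra.TensorProduct.includeRight : B →ₐ[A] B ⊗[A] B).comp φa))
    exact AlgHom.congr_fun (h2.trans (congrArg WithConv.ofConv h)) c)
  refine ⟨ψ, fun c => ?_⟩
  rw [hψ]
  show f₀ c = _
  have h := hφ c 0
  obtain ⟨a, ha⟩ := exists_one_tmul I (f₀ c)
  rw [← ha]
  change _ = red B hone (f₀ c) at h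
  rw [← ha] at h
  have h' := congrArg (red B (show I ^ 2 ^ 0 ≤ I by rw [pow_zero, pow_one])) h
  rw [red_red] at h'
  simp only [red, Algebra.TensorProduct.map_tmul, AlgHom.id_apply, map_one] at h'
  exact h'.symm

end Groth.Agent.HopfLift
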