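import Groth.Agent.HopfLiftLib.Lift
import Groth.Agent.DiagHopfLib.Family

set_option autoImplicit false

/-!
Groups of multiplicative type have integrals; lifting along nilpotent ideals.
-/

noncomputable section

universe u

open scoped TensorProduct
open Groth.Agent.TorusField Groth.Agent.DiagHopf

namespace Groth.Agent.HopfLift

variable {R : Type u} [CommRing R]

/-- A group of multiplicative type has an invariant integral. -/
theorem exists_integral_of_isMultType {A : Type u} [CommRing A] [HopfAlgebra R A] (h : SGA3b.IsMultType R A) :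
    ∃ ι : A →ₗ[R] R, IsIntegral R ι := by
  classical
  obtain ⟨s, hs, H⟩ := exists_cover_split h
  obtain ⟨t, hts, ht⟩ := Submodule.mem_span_finite_of_mem_span (show (1 : R) ∈ Ideal.span s by rw [hs]; trivial)
  choose T i1 i2 i3 i4 N i5 hff hE using fun f : (t : Set R) => H f.1 (hts f.2)
  letI := i1
  letI := i2
  haveI hflat : ∀ f, Module.Flat R (T f) := fun f => by
    letI := i3 f
    haveI := i4 f
    haveI : Module.Flat R (Localization.Away f.1) := IsLocalization.flat _ (Submonoid.powers f.1)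
    haveI := hff f
    exact Module.Flat.trans R (Localization.Away f.1) (T f)
  haveI : Module.FaithfullyFlat R (Π f, T f) := by
    refine @faithfullyFlat_pi R _ _ _ T i1 i2 hflat fun m hm => ?_
    obtain ⟨f, hft, hfm⟩ : ∃ f ∈ t, f ∉ m := by
      by_contra hne
      push Not at hne
      exact hm.ne_top ((Ideal.eq_top_iff_one _).2 (Ideal.span_le.2 hne ht))
    refine ⟨⟨f, hft⟩, fun htop => ?_⟩
    letI := i3 ⟨f, hft⟩
    haveI := i4 ⟨f, hft⟩
    haveI : Module.FaithfullyFlat (Localization.Away f) (T ⟨f, hft⟩) := hff ⟨f, hft⟩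
    rw [Ideal.smul_top_eq_map, Submodule.restrictScalars_eq_top_iff] at htop
    rw [IsScalarTower.algebraMap_eq R (Localization.Away f) (T ⟨f, hft⟩), ← Ideal.map_map] at htop
    have h2 : Ideal.map (algebraMap R (Localization.Away f)) m = ⊤ := by
      rw [← Ideal.comap_map_eq_self_of_faithfullyFlat (B := T ⟨f, hft⟩) (Ideal.map (algebraMap R (Localization.Away f)) m),
        htop, Ideal.comap_top]
    haveI := hm.isPrime
    have hdisj : Disjoint (Submonoid.powers f : Set R) (m : Set R) := by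
      rw [Set.disjoint_left]
      rintro _ ⟨n, rfl⟩ hn
      exact hfm (hm.isPrime.mem_of_pow_mem n hn)
    exact (IsLocalization.isPrime_of_isPrime_disjoint (Submonoid.powers f) (Localization.Away f) m inferInstance hdisj).ne_top h2
  choose l hl using fun f : (t : Set R) => exists_integral_of_split (hE f).some
  exact exists_integral_of_faithfullyFlat (exists_integral_pi l hl)

/-- Homomorphisms into a smooth group lift along nilpotent ideals. -/
theorem exists_lift_of_isNilpotent {C : Type u} [CommRing C] [HopfAlgebra R C] [Algebra.FormallySmooth R C]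
    {A : Type u} [CommRing A] [Bialgebra R A] {ι : A →ₗ[R] R} (hι : IsIntegral R ι) (I : Ideal R) (hI : IsNilpotent I)
    (φ₀ : (R ⧸ I) ⊗[R] C →ₐc[R ⧸ I] (R ⧸ I) ⊗[R] A) :
    ∃ φ : C →ₐc[R] A, ∀ c : C, φ₀ ((1 : R ⧸ I) ⊗ₜ[R] c) = (1 : R ⧸ I) ⊗ₜ[R] (φ c) := by
  obtain ⟨N, hN⟩ := hI
  let f₀ := ((φ₀ : (R ⧸ I) ⊗[R] C →ₐ[R ⧸ I] (R ⧸ I) ⊗[R] A).restrictScalars R).comp Algebra.TensorProduct.includeRight
  have key : ∀ k : ℕ, ∃ f : C →ₐ[R] (R ⧸ I ^ 2 ^ k) ⊗[R] A, Compat A (I ^ 2 ^ k) f ∧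
      (red A (Ideal.pow_le_self (pow_ne_zero k two_ne_zero))).comp f = f₀ := by
    intro k
    induction k with
    | zero =>
      have h : I ≤ I ^ 2 ^ 0 := by rw [pow_zero, pow_one]
      refine ⟨(red A h).comp f₀, compat_red h (compat_of_bialgHom I φ₀), AlgHom.ext fun c => ?_⟩
      simp only [AlgHom.comp_apply, red_red]
      obtain ⟨a, ha⟩ := exists_one_tmul I (f₀ c)
      rw [← ha]
      rfl
    | succ k ih =>
      obtain ⟨f, hf, hfr⟩ := ih
      have hle : I ^ 2 ^ (k + 1) ≤ I ^ 2 ^ k := Ideal.pow_le_pow_right (by rw [pow_succ]; omega)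
      have hJ : I ^ 2 ^ k * I ^ 2 ^ k ≤ I ^ 2 ^ (k + 1) := le_of_eq (by rw [← pow_add, pow_succ, Nat.mul_two])
      obtain ⟨f', hred, hf'⟩ := exists_step hι hle hJ f hf
      refine ⟨f', hf', AlgHom.ext fun c => ?_⟩
      rw [← hfr, ← hred]
      simp only [AlgHom.comp_apply, red_red]
  obtain ⟨f, hf, hfr⟩ := key N
  have hbot : I ^ 2 ^ N ≤ ⊥ := (Ideal.pow_le_pow_right (Nat.lt_two_pow_self).le).trans hN.le
  let e : (R ⧸ (⊥ : Ideal R)) ⊗[R] A →ₐ[R] A :=
    (Algebra.TensorProduct.lid R A).toAlgHom.comp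
      (Algebra.TensorProduct.map (AlgEquiv.quotientBot R R).toAlgHom (AlgHom.id R A))
  let e₂ : (R ⧸ (⊥ : Ideal R)) ⊗[R] (A ⊗[R] A) →ₐ[R] A ⊗[R] A :=
    (Algebra.TensorProduct.lid R (A ⊗[R] A)).toAlgHom.comp
      (Algebra.TensorProduct.map (AlgEquiv.quotientBot R R).toAlgHom (AlgHom.id R (A ⊗[R] A)))
  have he : ∀ a : A, e (1 ⊗ₜ[R] a) = a := fun a => by simp [e]
  have heg : ∀ (g : A →ₐ[R] A ⊗[R] A), e₂.comp (lv ⊥ g) = g.comp e := fun g => by
    refine AlgHom.ext fun x => ?_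
    obtain ⟨a, rfl⟩ := exists_one_tmul ⊥ x
    simp [e, e₂, lv]
  let g := (red A hbot).comp f
  have hg : Compat A ⊥ g := compat_red hbot hf
  obtain ⟨φ, hφ⟩ := exists_bialgHom_of_compat (e.comp g) (by
    have := congrArg (fun w => WithConv.toConv (e₂.comp w.ofConv)) hg
    rw [AlgHom.comp_convMul_distrib] at this
    simp only [WithConv.ofConv_toConv, ← AlgHom.comp_assoc, heg] at this
    simpa only [← AlgHom.comp_assoc] using this)
  refine ⟨φ, fun c => ?_⟩
  rw [hφ]
  show f₀ c = _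
  rw [← hfr]
  simp only [AlgHom.comp_apply, g]
  obtain ⟨a, ha⟩ := exists_one_tmul _ (f c)
  rw [← ha]
  show (Ideal.Quotient.factor (Ideal.pow_le_self (pow_ne_zero N two_ne_zero)) 1) ⊗ₜ[R] a = _
  rw [map_one, show (red A hbot ((1 : R ⧸ I ^ 2 ^ N) ⊗ₜ[R] a)) = (1 : R ⧸ (⊥ : Ideal R)) ⊗ₜ[R] a from rfl, he]

end Groth.Agent.HopfLift
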