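import Mathlib.RingTheory.Coalgebra.Convolution
import Mathlib.RingTheory.Bialgebra.Convolution
import Mathlib.RingTheory.HopfAlgebra.Convolution
import Mathlib.Tactic.NoncommRing
import Mathlib.Tactic.LinearCombination
import Mathlib.RingTheory.Ideal.Maps

set_option autoImplicit false

/-!
Correction of an algebra map which is a group homomorphism up to a square zero ideal, using an invariant integral.
-/

noncomputable section

universe u

open scoped TensorProduct
open WithConv

namespace Groth.Agent.HopfLift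

variable {R : Type u} [CommRing R] (J : Ideal R) {C : Type u} [CommRing C] [HopfAlgebra R C]

section Small

variable {X Y : Type u} [CommRing X] [Algebra R X] [CommRing Y] [Algebra R Y]

/-- An algebra map as an element of the convolution ring. -/
def cv (h : C →ₐ[R] X) : WithConv (C →ₗ[R] X) := toConv h.toLinearMap

/-- Composition in the convolution ring. -/
def post (g : X →ₗ[R] Y) (a : WithConv (C →ₗ[R] X)) : WithConv (C →ₗ[R] Y) := toConv (g ∘ₗ a.ofConv)

theorem post_apply (g : X →ₗ[R] Y) (a : WithConv (C →ₗ[R] X)) (c : C) : post g a c = g (a c) := rfl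

theorem post_add (g : X →ₗ[R] Y) (a b : WithConv (C →ₗ[R] X)) : post g (a + b) = post g a + post g b := by
  apply WithConv.ofConv_injective
  exact LinearMap.comp_add _ _ _

theorem post_sub (g : X →ₗ[R] Y) (a b : WithConv (C →ₗ[R] X)) : post g (a - b) = post g a - post g b := by
  apply WithConv.ofConv_injective
  exact LinearMap.comp_sub _ _ _

theorem post_mul (g : X →ₐ[R] Y) (a b : WithConv (C →ₗ[R] X)) :
    post g.toLinearMap (a * b) = post g.toLinearMap a * post g.toLinearMap b := by
  apply WithConv.ofConv_injective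
  exact LinearMap.algHom_comp_convMul_distrib g a b

theorem post_one (g : X →ₐ[R] Y) : post g.toLinearMap (1 : WithConv (C →ₗ[R] X)) = 1 := by
  apply WithConv.ofConv_injective
  ext c
  simp [post, LinearMap.convOne_def]

theorem post_cv (g : X →ₐ[R] Y) (h : C →ₐ[R] X) : post g.toLinearMap (cv h) = cv (g.comp h) := rfl

theorem cv_mul (h k : C →ₐ[R] X) : cv h * cv k = cv (toConv h * toConv k).ofConv :=
  (AlgHom.toLinearMap_convMul (toConv h) (toConv k)).symm

theorem cv_one : (1 : WithConv (C →ₗ[R] X)) = cv (1 : WithConv (C →ₐ[R] X)).ofConv := by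
  apply WithConv.ofConv_injective
  ext c
  simp [cv, LinearMap.convOne_def, AlgHom.convOne_def]

/-- The inverse of an algebra map. -/
def inv' (h : C →ₐ[R] X) : C →ₐ[R] X := h.comp (HopfAlgebra.antipodeAlgHom R C)

theorem cv_mul_inv (h : C →ₐ[R] X) : cv h * cv (inv' h) = 1 := by
  rw [cv_mul, cv_one]
  congr 2
  have := congrArg (fun w : WithConv (C →ₐ[R] C) => toConv (h.comp w.ofConv)) (mul_inv_cancel (toConv (AlgHom.id R C)))
  rw [AlgHom.comp_convMul_distrib] at this
  refine this.trans ?_
  apply WithConv.ofConv_injective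
  ext c
  simp [AlgHom.convOne_def]

theorem cv_inv_mul (h : C →ₐ[R] X) : cv (inv' h) * cv h = 1 := by
  rw [cv_mul, cv_one]
  congr 2
  have := congrArg (fun w : WithConv (C →ₐ[R] C) => toConv (h.comp w.ofConv)) (inv_mul_cancel (toConv (AlgHom.id R C)))
  rw [AlgHom.comp_convMul_distrib] at this
  refine this.trans ?_
  apply WithConv.ofConv_injective
  ext c
  simp [AlgHom.convOne_def]

/-- All values in the ideal. -/
def Small (a : WithConv (C →ₗ[R] X)) : Prop := ∀ c, a c ∈ Ideal.map (algebraMap R X) J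

variable {J}

theorem Small.mul_right {a : WithConv (C →ₗ[R] X)} (ha : Small J a) (b : WithConv (C →ₗ[R] X)) : Small J (a * b) := by
  intro c
  rw [LinearMap.convMul_apply]
  generalize Coalgebra.comul (R := R) c = z
  induction z using TensorProduct.induction_on with
  | zero => simp
  | add p q hp hq => simp only [map_add]; exact add_mem hp hq
  | tmul p q => simpa using Ideal.mul_mem_right _ _ (ha p)

theorem Small.mul_left {a : WithConv (C →ₗ[R] X)} (ha : Small J a) (b : WithConv (C →ₗ[R] X)) : Small J (b * a) := by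
  intro c
  rw [LinearMap.convMul_apply]
  generalize Coalgebra.comul (R := R) c = z
  induction z using TensorProduct.induction_on with
  | zero => simp
  | add p q hp hq => simp only [map_add]; exact add_mem hp hq
  | tmul p q => simpa using Ideal.mul_mem_left _ _ (ha q)

theorem Small.mul_eq_zero (hJ : Ideal.map (algebraMap R X) (J * J) = ⊥) {a b : WithConv (C →ₗ[R] X)} (ha : Small J a)
    (hb : Small J b) : a * b = 0 := by
  apply WithConv.ofConv_injective
  refine LinearMap.ext fun c => ?_
  rw [LinearMap.convMul_apply]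
  show _ = (0 : X)
  generalize Coalgebra.comul (R := R) c = z
  induction z using TensorProduct.induction_on with
  | zero => simp
  | add p q hp hq => simp only [map_add, hp, hq, add_zero]
  | tmul p q =>
    have : a p * b q ∈ (⊥ : Ideal X) := by
      rw [← hJ, Ideal.map_mul]
      exact Ideal.mul_mem_mul (ha p) (hb q)
    simpa using this

theorem Small.post (g : X →ₗ[R] Y) {a : WithConv (C →ₗ[R] X)} (ha : Small J a) : Small J (post g a) := by
  intro c
  have h : ∀ x ∈ J • (⊤ : Submodule R X), g x ∈ J • (⊤ : Submodule R Y) := fun x hx => by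
    have := Submodule.mem_map_of_mem (f := g) hx
    rw [Submodule.map_smul''] at this
    exact Submodule.smul_mono le_rfl le_top this
  have hx : a c ∈ J • (⊤ : Submodule R X) := by rw [Ideal.smul_top_eq_map]; exact ha c
  have := h _ hx
  rw [Ideal.smul_top_eq_map] at this
  exact this

end Small

/-- The core correction lemma, in abstract form. -/
theorem exists_correction {X₁ X₂ X₃ : Type u} [CommRing X₁] [Algebra R X₁] [CommRing X₂] [Algebra R X₂]
    [CommRing X₃] [Algebra R X₃] (h1 : Ideal.map (algebraMap R X₁) (J * J) = ⊥) (h2 : Ideal.map (algebraMap R X₂) (J * J) = ⊥)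
    (h3 : Ideal.map (algebraMap R X₃) (J * J) = ⊥) (i₁ i₂ Δ : X₁ →ₐ[R] X₂) (j₁₂ j₂₃ d₁₂ d₂₃ : X₂ →ₐ[R] X₃)
    (j₁ j₃ : X₁ →ₐ[R] X₃) (E : X₂ →ₗ[R] X₁) (I₃ : X₃ →ₗ[R] X₂)
    (hco : d₁₂.comp Δ = d₂₃.comp Δ) (ha : d₁₂.comp i₁ = j₁₂.comp Δ) (hb : d₁₂.comp i₂ = j₃)
    (hc : d₂₃.comp i₁ = j₁) (hd : d₂₃.comp i₂ = j₂₃.comp Δ) (he : j₁₂.comp i₁ = j₁) (hf₃ : j₂₃.comp i₂ = j₃)
    (hg : j₁₂.comp i₂ = j₂₃.comp i₁) (hI : ∀ p z, I₃ (j₁₂ p * z) = p * I₃ z) (hI1 : I₃ 1 = 1)
    (hI₁₂ : ∀ p, I₃ (d₁₂ p) = Δ (E p)) (hI₂₃ : ∀ p, I₃ (d₂₃ p) = i₁ (E p)) (hIj : ∀ p, I₃ (j₂₃ p) = i₂ (E p))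
    (f : C →ₐ[R] X₁) (hf : Small J (cv (i₁.comp f) * cv (i₂.comp f) - cv (Δ.comp f))) :
    ∃ f' : C →ₐ[R] X₁, (∀ c, f' c - f c ∈ Ideal.map (algebraMap R X₁) J) ∧
      toConv (i₁.comp f') * toConv (i₂.comp f') = toConv (Δ.comp f') := by
  let g1 := cv (i₁.comp f) * cv (i₂.comp f)
  let g2 := cv (Δ.comp f)
  let g2' := cv (inv' (Δ.comp f))
  let δ := g1 - g2
  let hA : C →ₐ[R] X₂ :=
    (toConv (i₁.comp f) * toConv (i₂.comp f) * toConv (inv' (Δ.comp f))).ofConv
  have hhA : cv hA = g1 * g2' := by
    show _ = cv (i₁.comp f) * cv (i₂.comp f) * cv (inv' (Δ.comp f))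
    rw [cv_mul, cv_mul, toConv_ofConv]
  let c := cv hA - 1
  have hcδ : c = δ * g2' := by
    show cv hA - 1 = (g1 - g2) * g2'
    rw [sub_mul, hhA, show g2 * g2' = 1 from cv_mul_inv _]
  have hcS : Small J c := hcδ ▸ hf.mul_right g2'
  have hδ : δ = c * g2 := by
    rw [hcδ, mul_assoc, show g2' * g2 = 1 from cv_inv_mul _, mul_one]
  let u := post E c
  have huS : Small J u := hcS.post E
  -- the cocycle identity
  have hd12δ : post d₁₂.toLinearMap δ = post d₁₂.toLinearMap g1 - post d₁₂.toLinearMap g2 := post_sub _ _ _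
  have hd23δ : post d₂₃.toLinearMap δ = post d₂₃.toLinearMap g1 - post d₂₃.toLinearMap g2 := post_sub _ _ _
  have hj12δ : post j₁₂.toLinearMap δ = post j₁₂.toLinearMap g1 - post j₁₂.toLinearMap g2 := post_sub _ _ _
  have hj23δ : post j₂₃.toLinearMap δ = post j₂₃.toLinearMap g1 - post j₂₃.toLinearMap g2 := post_sub _ _ _
  let F₁ := cv (j₁.comp f)
  let F₁' := cv (inv' (j₁.comp f))
  let F₃ := cv (j₃.comp f)
  have e12 : post d₁₂.toLinearMap g1 = post j₁₂.toLinearMap g2 * F₃ := by
    show post d₁₂.toLinearMap (cv (i₁.comp f) * cv (i₂.comp f)) = _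
    rw [post_mul, post_cv, post_cv, post_cv, ← AlgHom.comp_assoc, ← AlgHom.comp_assoc, ha, hb, AlgHom.comp_assoc]
  have e23 : post d₂₃.toLinearMap g1 = F₁ * post j₂₃.toLinearMap g2 := by
    show post d₂₃.toLinearMap (cv (i₁.comp f) * cv (i₂.comp f)) = _
    rw [post_mul, post_cv, post_cv, post_cv, ← AlgHom.comp_assoc, ← AlgHom.comp_assoc, hc, hd, AlgHom.comp_assoc]
  have ej : post j₁₂.toLinearMap g1 * F₃ = F₁ * post j₂₃.toLinearMap g1 := by
    show post j₁₂.toLinearMap (cv (i₁.comp f) * cv (i₂.comp f)) * _ =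
      _ * post j₂₃.toLinearMap (cv (i₁.comp f) * cv (i₂.comp f))
    rw [post_mul, post_mul, post_cv, post_cv, post_cv, post_cv, ← AlgHom.comp_assoc, ← AlgHom.comp_assoc,
      ← AlgHom.comp_assoc, ← AlgHom.comp_assoc, he, hg, hf₃, mul_assoc]
  have eM : post d₁₂.toLinearMap g2 = post d₂₃.toLinearMap g2 := by
    show post _ (cv _) = post _ (cv _)
    rw [post_cv, post_cv, ← AlgHom.comp_assoc, ← AlgHom.comp_assoc, hco]
  let M' := post d₁₂.toLinearMap g2'
  have hM'₁ : post d₁₂.toLinearMap g2 * M' = 1 := by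
    rw [← post_mul, show g2 * g2' = 1 from cv_mul_inv _, post_one]
  have hM'₂ : M' = post d₂₃.toLinearMap g2' := by
    show post _ (cv _) = post _ (cv _)
    rw [post_cv, post_cv, inv', ← AlgHom.comp_assoc, ← AlgHom.comp_assoc, ← AlgHom.comp_assoc, ← AlgHom.comp_assoc, hco]
  have key : post d₁₂.toLinearMap δ + post j₁₂.toLinearMap δ * F₃ =
      post d₂₃.toLinearMap δ + F₁ * post j₂₃.toLinearMap δ := by
    rw [hd12δ, hd23δ, hj12δ, hj23δ, sub_mul, mul_sub, ← e12, ← e23, ej, eM]
    abel
  have k1 : post d₁₂.toLinearMap δ * M' = post d₁₂.toLinearMap c := by rw [hcδ, ← post_mul]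
  have k2 : post d₂₃.toLinearMap δ * M' = post d₂₃.toLinearMap c := by rw [hcδ, hM'₂, ← post_mul]
  have k3 : post j₁₂.toLinearMap δ * F₃ * M' = post j₁₂.toLinearMap c := by
    rw [hδ, post_mul, mul_assoc (post _ c), ← e12, mul_assoc, ← post_mul, ← hhA,
      show cv hA = 1 + c by show cv hA = 1 + (cv hA - 1); abel, post_add, post_one, mul_add, mul_one,
      (hcS.post _).mul_eq_zero h3 (hcS.post _), add_zero]
  have k4 : F₁ * post j₂₃.toLinearMap δ * M' = F₁ * post j₂₃.toLinearMap c * F₁' := by
    have h23 : post j₂₃.toLinearMap g2 * M' = F₁' * (1 + post d₂₃.toLinearMap c) := by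
      calc post j₂₃.toLinearMap g2 * M' = F₁' * F₁ * (post j₂₃.toLinearMap g2 * M') := by
            rw [show F₁' * F₁ = 1 from cv_inv_mul _, one_mul]
        _ = F₁' * (post d₂₃.toLinearMap g1 * post d₂₃.toLinearMap g2') := by rw [e23, hM'₂]; noncomm_ring
        _ = F₁' * (1 + post d₂₃.toLinearMap c) := by
          rw [← post_mul, ← hhA, show cv hA = 1 + c by show cv hA = 1 + (cv hA - 1); abel, post_add, post_one]
    rw [hδ, post_mul, mul_assoc, mul_assoc, h23, mul_add, mul_one, mul_add,
      ((hcS.post _).mul_eq_zero h3 ((hcS.post _).mul_left F₁')), add_zero, mul_assoc]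
  have cocycle : post d₁₂.toLinearMap c + post j₁₂.toLinearMap c =
      post d₂₃.toLinearMap c + F₁ * post j₂₃.toLinearMap c * F₁' := by
    rw [← k1, ← k2, ← k3, ← k4, ← add_mul, ← add_mul, key]
  -- integrate
  have hmulI : ∀ (a : WithConv (C →ₗ[R] X₂)) (z : WithConv (C →ₗ[R] X₃)),
      post I₃ (post j₁₂.toLinearMap a * z) = a * post I₃ z := fun a z => by
    apply WithConv.ofConv_injective
    refine LinearMap.ext fun t => ?_
    show I₃ ((post j₁₂.toLinearMap a * z) t) = (a * post I₃ z) t
    rw [LinearMap.convMul_apply, LinearMap.convMul_apply]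
    generalize Coalgebra.comul (R := R) t = w
    induction w using TensorProduct.induction_on with
    | zero => simp
    | add p q hp hq => simp only [map_add, hp, hq]
    | tmul p q => simp [post_apply, hI]
  have hmulI' : ∀ (a : WithConv (C →ₗ[R] X₂)) (z : WithConv (C →ₗ[R] X₃)),
      post I₃ (z * post j₁₂.toLinearMap a) = post I₃ z * a := fun a z => by
    apply WithConv.ofConv_injective
    refine LinearMap.ext fun t => ?_
    show I₃ ((z * post j₁₂.toLinearMap a) t) = (post I₃ z * a) t
    rw [LinearMap.convMul_apply, LinearMap.convMul_apply]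
    generalize Coalgebra.comul (R := R) t = w
    induction w using TensorProduct.induction_on with
    | zero => simp
    | add p q hp hq => simp only [map_add, hp, hq]
    | tmul p q =>
      simp only [TensorProduct.map_tmul, LinearMap.mul'_apply]
      show I₃ (z p * j₁₂ (a q)) = I₃ (z p) * a q
      rw [mul_comm, hI, mul_comm]
  have hc' : c + post Δ.toLinearMap u =
      post i₁.toLinearMap u + cv (i₁.comp f) * post i₂.toLinearMap u * cv (inv' (i₁.comp f)) := by
    have e := congrArg (post I₃) cocycle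
    rw [post_add, post_add] at e
    have l1 : post I₃ (post d₁₂.toLinearMap c) = post Δ.toLinearMap u := by
      apply WithConv.ofConv_injective; exact LinearMap.ext fun t => hI₁₂ (c t)
    have l2 : post I₃ (post d₂₃.toLinearMap c) = post i₁.toLinearMap u := by
      apply WithConv.ofConv_injective; exact LinearMap.ext fun t => hI₂₃ (c t)
    have l3 : post I₃ (post j₁₂.toLinearMap c) = c := by
      apply WithConv.ofConv_injective
      refine LinearMap.ext fun t => ?_
      show I₃ (j₁₂ (c t)) = c t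
      rw [← mul_one (j₁₂ (c t)), hI, hI1, mul_one]
    have l4 : post I₃ (post j₂₃.toLinearMap c) = post i₂.toLinearMap u := by
      apply WithConv.ofConv_injective; exact LinearMap.ext fun t => hIj (c t)
    have l5 : F₁ = post j₁₂.toLinearMap (cv (i₁.comp f)) := by
      rw [post_cv, ← AlgHom.comp_assoc, he]
    have l6 : F₁' = post j₁₂.toLinearMap (cv (inv' (i₁.comp f))) := by
      rw [post_cv]
      show cv (inv' (j₁.comp f)) = _
      rw [inv', inv', ← AlgHom.comp_assoc, ← AlgHom.comp_assoc, he]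
    rw [l1, l2, l3, l5, l6, mul_assoc, hmulI, hmulI', l4, ← mul_assoc] at e
    rw [add_comm, e]
  -- the corrected map
  have hmult : ∀ x y, (1 - u) (x * y) = (1 - u) x * (1 - u) y := by
    intro x y
    have hcm : c (x * y) = c x * algebraMap R X₂ (Coalgebra.counit y) + algebraMap R X₂ (Coalgebra.counit x) * c y := by
      have h0 : c x * c y = 0 := by
        have : c x * c y ∈ (⊥ : Ideal X₂) := by
          rw [← h2, Ideal.map_mul]; exact Ideal.mul_mem_mul (hcS x) (hcS y)
        simpa using this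
      have hv : ∀ t, hA t = c t + algebraMap R X₂ (Coalgebra.counit t) := fun t => by
        show _ = (hA t - (1 : WithConv (C →ₗ[R] X₂)) t) + _
        rw [LinearMap.convOne_def]; simp
      have := map_mul hA x y
      rw [hv, hv, hv, Bialgebra.counit_mul, map_mul (algebraMap R X₂)] at this
      linear_combination this + h0
    have hu : u (x * y) = u x * algebraMap R X₁ (Coalgebra.counit y) + algebraMap R X₁ (Coalgebra.counit x) * u y := by
      show E (c (x * y)) = E (c x) * _ + _ * E (c y)
      rw [hcm, map_add, mul_comm (c x), ← Algebra.smul_def, ← Algebra.smul_def, map_smul, map_smul,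
        ← Algebra.smul_def, mul_comm (E (c x)), ← Algebra.smul_def]
    have h0 : u x * u y = 0 := by
      have : u x * u y ∈ (⊥ : Ideal X₁) := by
        rw [← h1, Ideal.map_mul]; exact Ideal.mul_mem_mul (huS x) (huS y)
      simpa using this
    have hv : ∀ t, (1 - u) t = algebraMap R X₁ (Coalgebra.counit t) - u t := fun t => by
      show (1 : WithConv (C →ₗ[R] X₁)) t - u t = _
      rw [LinearMap.convOne_def]; simp
    rw [hv, hv, hv, Bialgebra.counit_mul, map_mul (algebraMap R X₁), hu]
    linear_combination -h0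
  have hone : (1 - u) 1 = 1 := by
    have hc1 : c 1 = 0 := by
      show hA 1 - (1 : WithConv (C →ₗ[R] X₂)) 1 = 0
      rw [LinearMap.convOne_def]; simp
    show (1 : WithConv (C →ₗ[R] X₁)) 1 - E (c 1) = 1
    rw [hc1, LinearMap.convOne_def]; simp
  let F : C →ₐ[R] X₁ := AlgHom.ofLinearMap (1 - u).ofConv hone hmult
  have hF : cv F = 1 - u := rfl
  refine ⟨(toConv F * toConv f).ofConv, fun t => ?_, ?_⟩
  · have : cv (toConv F * toConv f).ofConv - cv f = -(u * cv f) := by
      rw [← cv_mul, hF, sub_mul, one_mul]; abel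
    show (cv (toConv F * toConv f).ofConv - cv f) t ∈ _
    rw [this]
    exact neg_mem (huS.mul_right (cv f) t)
  · have inj : ∀ h k : WithConv (C →ₐ[R] X₂), cv h.ofConv = cv k.ofConv → h = k := fun h k e =>
      WithConv.ofConv_injective (AlgHom.toLinearMap_injective (congrArg WithConv.ofConv e))
    apply inj
    rw [← cv_mul, ← post_cv i₁, ← post_cv i₂, ofConv_toConv, ← post_cv Δ, ← cv_mul, hF, post_mul, post_mul, post_mul,
      post_sub, post_sub, post_sub, post_one, post_one, post_one, post_cv, post_cv, post_cv]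
    have z1 : post i₁.toLinearMap u * δ = 0 := (huS.post _).mul_eq_zero h2 hf
    have z2 : post i₂.toLinearMap u * (cv (inv' (i₁.comp f)) * δ) = 0 := (huS.post _).mul_eq_zero h2 (hf.mul_left _)
    have hcc : c = post i₁.toLinearMap u + cv (i₁.comp f) * post i₂.toLinearMap u * cv (inv' (i₁.comp f)) -
        post Δ.toLinearMap u := eq_sub_of_add_eq hc'
    have hg1 : g1 = δ + g2 := (sub_add_cancel g1 g2).symm
    have hb2 : cv (i₂.comp f) = cv (inv' (i₁.comp f)) * g1 := by
      show _ = _ * (_ * _)
      rw [← mul_assoc, cv_inv_mul, one_mul]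
    have z3 : post i₁.toLinearMap u * (cv (i₁.comp f) * post i₂.toLinearMap u) = 0 :=
      (huS.post _).mul_eq_zero h2 ((huS.post _).mul_left _)
    calc (1 - post i₁.toLinearMap u) * cv (i₁.comp f) * ((1 - post i₂.toLinearMap u) * cv (i₂.comp f))
        = g1 - post i₁.toLinearMap u * g1 - cv (i₁.comp f) * (post i₂.toLinearMap u * cv (i₂.comp f)) +
            post i₁.toLinearMap u * (cv (i₁.comp f) * post i₂.toLinearMap u) * cv (i₂.comp f) := by
          show _ = cv (i₁.comp f) * cv (i₂.comp f) - _ * (cv (i₁.comp f) * cv (i₂.comp f)) - _ + _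
          noncomm_ring
      _ = g1 - post i₁.toLinearMap u * g2 -
            cv (i₁.comp f) * post i₂.toLinearMap u * cv (inv' (i₁.comp f)) * g2 := by
          rw [z3, zero_mul, add_zero, hb2, hg1, mul_add (post i₁.toLinearMap u), z1, zero_add,
            mul_add (cv (inv' _)), mul_add (post i₂.toLinearMap u), z2, zero_add]
          noncomm_ring
      _ = g1 - (c + post Δ.toLinearMap u) * g2 := by rw [hc']; noncomm_ring
      _ = (1 - post Δ.toLinearMap u) * cv (Δ.comp f) := by
          rw [show g1 = δ + g2 from hg1, hδ]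
          show _ = (1 - post Δ.toLinearMap u) * g2
          noncomm_ring

end Groth.Agent.HopfLift
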