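import Groth.Agent.HopfLiftLib.Integral
import Groth.Agent.HopfLiftLib.Correct
import Mathlib.RingTheory.Smooth.Basic
import Mathlib.RingTheory.Bialgebra.TensorProduct
import Mathlib.RingTheory.TensorProduct.Quotient

set_option autoImplicit false

/-!
Lifting homomorphisms from a smooth group into a group with an invariant integral along nilpotent thickenings.
-/

noncomputable section

universe u

open scoped TensorProduct
open WithConv

namespace Groth.Agent.HopfLift

variable {R : Type u} [CommRing R] {C : Type u} [CommRing C] [HopfAlgebra R C] {A : Type u} [CommRing A]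
  [Bialgebra R A]

section Level

variable {X Y : Type u} [CommRing X] [Algebra R X] [CommRing Y] [Algebra R Y]

/-- Reduction of the level. -/
def red (X : Type u) [CommRing X] [Algebra R X] {K J : Ideal R} (h : K ≤ J) :
    (R ⧸ K) ⊗[R] X →ₐ[R] (R ⧸ J) ⊗[R] X :=
  Algebra.TensorProduct.map (Ideal.Quotient.factorₐ R h) (AlgHom.id R X)

/-- A map at a level. -/
def lv (K : Ideal R) (h : X →ₐ[R] Y) : (R ⧸ K) ⊗[R] X →ₐ[R] (R ⧸ K) ⊗[R] Y :=
  Algebra.TensorProduct.map (AlgHom.id R (R ⧸ K)) h

theorem red_lv {K J : Ideal R} (h : K ≤ J) (g : X →ₐ[R] Y) (x : (R ⧸ K) ⊗[R] X) :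
    red Y h (lv K g x) = lv J g (red X h x) := by
  induction x using TensorProduct.induction_on with
  | zero => simp
  | add a b ha hb => simp only [map_add, ha, hb]
  | tmul t a => simp [red, lv]

theorem red_red {K J L : Ideal R} (h : K ≤ J) (h' : J ≤ L) (x : (R ⧸ K) ⊗[R] X) :
    red X h' (red X h x) = red X (h.trans h') x := by
  induction x using TensorProduct.induction_on with
  | zero => simp
  | add a b ha hb => simp only [map_add, ha, hb]
  | tmul t a =>
    obtain ⟨r, rfl⟩ := Ideal.Quotient.mk_surjective t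
    rfl

theorem exists_one_tmul (K : Ideal R) (x : (R ⧸ K) ⊗[R] X) : ∃ a : X, (1 : R ⧸ K) ⊗ₜ[R] a = x := by
  induction x using TensorProduct.induction_on with
  | zero => exact ⟨0, TensorProduct.tmul_zero _ _⟩
  | add a b ha hb =>
    obtain ⟨a', rfl⟩ := ha
    obtain ⟨b', rfl⟩ := hb
    exact ⟨a' + b', TensorProduct.tmul_add _ _ _⟩
  | tmul t a =>
    obtain ⟨r, rfl⟩ := Ideal.Quotient.mk_surjective t
    refine ⟨r • a, ?_⟩
    rw [TensorProduct.tmul_smul, TensorProduct.smul_tmul', Algebra.smul_def, mul_one]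
    rfl

theorem one_tmul_eq_zero_iff (K : Ideal R) (a : X) :
    (1 : R ⧸ K) ⊗ₜ[R] a = 0 ↔ a ∈ Ideal.map (algebraMap R X) K := by
  constructor
  · intro h
    have h2 := congrArg (TensorProduct.quotTensorEquivQuotSMul X K) h
    rw [map_zero, ← map_one (Ideal.Quotient.mk K), TensorProduct.quotTensorEquivQuotSMul_mk_tmul, one_smul,
      Submodule.Quotient.mk_eq_zero, Ideal.smul_top_eq_map] at h2
    exact h2
  · intro h
    have h2 : a ∈ K • (⊤ : Submodule R X) := by rw [Ideal.smul_top_eq_map]; exact h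
    refine Submodule.smul_induction_on h2 (fun r hr n _ => ?_) fun x y hx hy => ?_
    · rw [TensorProduct.tmul_smul, TensorProduct.smul_tmul', Algebra.smul_def, mul_one]
      show (Ideal.Quotient.mk K r) ⊗ₜ[R] n = 0
      rw [Ideal.Quotient.eq_zero_iff_mem.2 hr, TensorProduct.zero_tmul]
    · rw [TensorProduct.tmul_add, hx, hy, add_zero]

theorem red_surjective {K J : Ideal R} (h : K ≤ J) : Function.Surjective (red X h) := fun y => by
  obtain ⟨a, rfl⟩ := exists_one_tmul J y
  exact ⟨1 ⊗ₜ a, rfl⟩

theorem mem_of_red_eq_zero {K J : Ideal R} (h : K ≤ J) {x : (R ⧸ K) ⊗[R] X} (hx : red X h x = 0) :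
    x ∈ Ideal.map (algebraMap R ((R ⧸ K) ⊗[R] X)) J := by
  obtain ⟨a, rfl⟩ := exists_one_tmul K x
  have ha : a ∈ Ideal.map (algebraMap R X) J := (one_tmul_eq_zero_iff J a).1 hx
  have := Ideal.mem_map_of_mem (Algebra.TensorProduct.includeRight : X →ₐ[R] (R ⧸ K) ⊗[R] X).toRingHom ha
  rwa [Ideal.map_map, show (Algebra.TensorProduct.includeRight : X →ₐ[R] (R ⧸ K) ⊗[R] X).toRingHom.comp (algebraMap R X) =
    algebraMap R ((R ⧸ K) ⊗[R] X) from RingHom.ext fun r =>
      (Algebra.TensorProduct.includeRight : X →ₐ[R] (R ⧸ K) ⊗[R] X).commutes r] at this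

theorem map_eq_bot {K L : Ideal R} (h : L ≤ K) : Ideal.map (algebraMap R ((R ⧸ K) ⊗[R] X)) L = ⊥ := by
  rw [eq_bot_iff, Ideal.map_le_iff_le_comap]
  intro r hr
  show algebraMap R ((R ⧸ K) ⊗[R] X) r ∈ (⊥ : Ideal _)
  rw [Ideal.mem_bot, IsScalarTower.algebraMap_apply R (R ⧸ K) ((R ⧸ K) ⊗[R] X), Ideal.Quotient.algebraMap_eq,
    Ideal.Quotient.eq_zero_iff_mem.2 (h hr), map_zero]

theorem isNilpotent_ker_red {K J : Ideal R} (h : K ≤ J) {n : ℕ} (hn : J ^ n ≤ K) :
    IsNilpotent (RingHom.ker (red X h).toRingHom) := by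
  refine ⟨n, eq_bot_iff.2 ((Ideal.pow_right_mono (fun x hx => mem_of_red_eq_zero h hx) n).trans ?_)⟩
  rw [← Ideal.map_pow, map_eq_bot hn]

end Level

variable (A) in
/-- A homomorphism of groups at a level. -/
def Compat (K : Ideal R) (f : C →ₐ[R] (R ⧸ K) ⊗[R] A) : Prop :=
  toConv ((lv K (Algebra.TensorProduct.includeLeft : A →ₐ[R] A ⊗[R] A)).comp f) *
      toConv ((lv K (Algebra.TensorProduct.includeRight : A →ₐ[R] A ⊗[R] A)).comp f) =
    toConv ((lv K (Bialgebra.comulAlgHom R A)).comp f)

theorem compat_red {K J : Ideal R} (h : K ≤ J) {f : C →ₐ[R] (R ⧸ K) ⊗[R] A} (hf : Compat A K f) :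
    Compat A J ((red A h).comp f) := by
  have e : ∀ g : A →ₐ[R] A ⊗[R] A, (lv J g).comp ((red A h).comp f) = (red (A ⊗[R] A) h).comp ((lv K g).comp f) :=
    fun g => AlgHom.ext fun c => (red_lv h g (f c)).symm
  unfold Compat at hf ⊢
  rw [e, e, e]
  have := congrArg (fun w => toConv ((red (A ⊗[R] A) h).comp w.ofConv)) hf
  rw [AlgHom.comp_convMul_distrib] at this
  exact this

/-- One step: from level `J` to level `K`, when `J * J ≤ K`. -/
theorem exists_step [Algebra.FormallySmooth R C] {ι : A →ₗ[R] R} (hι : IsIntegral R ι) {K J : Ideal R} (hKJ : K ≤ J)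
    (hJ : J * J ≤ K) (f₀ : C →ₐ[R] (R ⧸ J) ⊗[R] A) (hf₀ : Compat A J f₀) :
    ∃ f : C →ₐ[R] (R ⧸ K) ⊗[R] A, (red A hKJ).comp f = f₀ ∧ Compat A K f := by
  have hn : J ^ 2 ≤ K := by rwa [pow_two]
  let g := Algebra.FormallySmooth.liftOfSurjective (R := R) f₀ (red A hKJ) (red_surjective hKJ)
    (isNilpotent_ker_red hKJ hn)
  have hg : (red A hKJ).comp g = f₀ := Algebra.FormallySmooth.comp_liftOfSurjective f₀ _ _ _
  let i₁ : A →ₐ[R] A ⊗[R] A := Algebra.TensorProduct.includeLeft
  let i₂ : A →ₐ[R] A ⊗[R] A := Algebra.TensorProduct.includeRight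
  let Δ := Bialgebra.comulAlgHom R A
  let j₁₂ : A ⊗[R] A →ₐ[R] (A ⊗[R] A) ⊗[R] A := Algebra.TensorProduct.includeLeft
  let j₃ : A →ₐ[R] (A ⊗[R] A) ⊗[R] A := Algebra.TensorProduct.includeRight
  let j₁ := j₁₂.comp i₁
  let j₂₃ : A ⊗[R] A →ₐ[R] (A ⊗[R] A) ⊗[R] A :=
    Algebra.TensorProduct.lift (j₁₂.comp i₂) j₃ fun _ _ => Commute.all _ _
  let d₁₂ : A ⊗[R] A →ₐ[R] (A ⊗[R] A) ⊗[R] A := Algebra.TensorProduct.lift (j₁₂.comp Δ) j₃ fun _ _ => Commute.all _ _
  let d₂₃ : A ⊗[R] A →ₐ[R] (A ⊗[R] A) ⊗[R] A :=
    Algebra.TensorProduct.lift j₁ (j₂₃.comp Δ) fun _ _ => Commute.all _ _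
  let E : A ⊗[R] A →ₗ[R] A := (TensorProduct.rid R A).toLinearMap ∘ₗ LinearMap.lTensor A ι
  let I₃ : (A ⊗[R] A) ⊗[R] A →ₗ[R] A ⊗[R] A :=
    (TensorProduct.rid R (A ⊗[R] A)).toLinearMap ∘ₗ LinearMap.lTensor (A ⊗[R] A) ι
  have hI : ∀ p z, I₃ (j₁₂ p * z) = p * I₃ z := fun p z => by
    induction z using TensorProduct.induction_on with
    | zero => simp
    | add a b ha hb => simp only [mul_add, map_add, ha, hb]
    | tmul a b => simp [I₃, j₁₂]
  have hI1 : I₃ 1 = 1 := by simp [I₃, Algebra.TensorProduct.one_def, hι.one]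
  have hE : ∀ b, E (Δ b) = ι b • (1 : A) := fun b => by
    have := congrArg (TensorProduct.lid R A) (hι.right b)
    rw [TensorProduct.lid_tmul] at this
    refine Eq.trans ?_ this
    show E (Coalgebra.comul (R := R) b) = _
    generalize Coalgebra.comul (R := R) b = w
    induction w using TensorProduct.induction_on with
    | zero => simp
    | add a c ha hc => simp only [map_add, ha, hc]
    | tmul a c => simp [E]
  have hI₁₂ : ∀ p, I₃ (d₁₂ p) = Δ (E p) := fun p => by
    induction p using TensorProduct.induction_on with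
    | zero => simp
    | add a b ha hb => simp only [map_add, ha, hb]
    | tmul a b =>
      simp only [d₁₂, Algebra.TensorProduct.lift_tmul, AlgHom.comp_apply]
      rw [hI]
      simp [I₃, E, j₃]
  have hIj : ∀ p, I₃ (j₂₃ p) = i₂ (E p) := fun p => by
    induction p using TensorProduct.induction_on with
    | zero => simp
    | add a b ha hb => simp only [map_add, ha, hb]
    | tmul a b =>
      simp only [j₂₃, Algebra.TensorProduct.lift_tmul, AlgHom.comp_apply]
      rw [hI]
      simp [I₃, E, j₃, i₂]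
  have hI₂₃ : ∀ p, I₃ (d₂₃ p) = i₁ (E p) := fun p => by
    induction p using TensorProduct.induction_on with
    | zero => simp
    | add a b ha hb => simp only [map_add, ha, hb]
    | tmul a b =>
      simp only [d₂₃, j₁, Algebra.TensorProduct.lift_tmul, AlgHom.comp_apply]
      rw [hI, hIj, hE, map_smul, map_one, mul_smul_comm, mul_one, ← map_smul]
      simp [E]
  have hco : d₁₂.comp Δ = d₂₃.comp Δ := by
    refine AlgHom.ext fun a => ?_
    show d₁₂ (Coalgebra.comul (R := R) a) = d₂₃ (Coalgebra.comul (R := R) a)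
    have h1 : ∀ w, d₁₂ w = LinearMap.rTensor A (Coalgebra.comul (R := R) (A := A)) w := fun w => by
      induction w using TensorProduct.induction_on with
      | zero => simp
      | add p q hp hq => simp only [map_add, hp, hq]
      | tmul p q => simp [d₁₂, j₁₂, j₃, Δ]
    have h2 : ∀ w, d₂₃ w =
        (TensorProduct.assoc R A A A).symm (LinearMap.lTensor A (Coalgebra.comul (R := R) (A := A)) w) := fun w => by
      induction w using TensorProduct.induction_on with
      | zero => simp
      | add p q hp hq => simp only [map_add, hp, hq]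
      | tmul p q =>
        simp only [d₂₃, Algebra.TensorProduct.lift_tmul, AlgHom.comp_apply, LinearMap.lTensor_tmul]
        show j₁ p * j₂₃ (Coalgebra.comul (R := R) q) = _
        generalize Coalgebra.comul (R := R) q = v
        induction v using TensorProduct.induction_on with
        | zero => simp
        | add x y hx hy => simp only [map_add, mul_add, TensorProduct.tmul_add, hx, hy]
        | tmul x y => simp [j₁, j₂₃, j₁₂, j₃, i₁, i₂]
    rw [h1, h2]
    apply (TensorProduct.assoc R A A A).injective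
    rw [LinearEquiv.apply_symm_apply]
    exact Coalgebra.coassoc_apply a
  -- transport to the level
  have hlvc : ∀ {X Y Z : Type u} [CommRing X] [Algebra R X] [CommRing Y] [Algebra R Y] [CommRing Z] [Algebra R Z]
      (g : Y →ₐ[R] Z) (h : X →ₐ[R] Y), (lv K g).comp (lv K h) = lv K (g.comp h) := fun g h => by
    apply Algebra.TensorProduct.ext'
    intro a b
    simp [lv]
  have hb₁ : d₁₂.comp i₁ = j₁₂.comp Δ := AlgHom.ext fun a => by simp [d₁₂, i₁, j₃]
  have hb₂ : d₁₂.comp i₂ = j₃ := AlgHom.ext fun a => by simp [d₁₂, i₂, j₁₂]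
  have hb₃ : d₂₃.comp i₁ = j₁ := AlgHom.ext fun a => by simp [d₂₃, i₁]
  have hb₄ : d₂₃.comp i₂ = j₂₃.comp Δ := AlgHom.ext fun a => by simp [d₂₃, i₂, j₁]
  have hb₅ : j₂₃.comp i₂ = j₃ := AlgHom.ext fun a => by simp [j₂₃, i₂]
  have hb₆ : j₁₂.comp i₂ = j₂₃.comp i₁ := AlgHom.ext fun a => by simp [j₂₃, i₁, j₃]
  obtain ⟨f', hf', hcompat⟩ := exists_correction J (C := C) (map_eq_bot hJ) (map_eq_bot hJ) (map_eq_bot hJ)
    (lv K i₁) (lv K i₂) (lv K Δ) (lv K j₁₂) (lv K j₂₃) (lv K d₁₂) (lv K d₂₃) (lv K j₁) (lv K j₃)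
    (LinearMap.lTensor (R ⧸ K) E) (LinearMap.lTensor (R ⧸ K) I₃)
    (by rw [hlvc, hlvc, hco]) (by rw [hlvc, hlvc, hb₁]) (by rw [hlvc, hb₂]) (by rw [hlvc, hb₃])
    (by rw [hlvc, hlvc, hb₄]) (by rw [hlvc]) (by rw [hlvc, hb₅]) (by rw [hlvc, hlvc, hb₆])
    (fun p z => by
      induction p using TensorProduct.induction_on with
      | zero => simp
      | add a b ha hb => simp only [map_add, add_mul, ha, hb]
      | tmul s p =>
        induction z using TensorProduct.induction_on with
        | zero => simp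
        | add a b ha hb => simp only [map_add, mul_add, ha, hb]
        | tmul t z => simp [lv, hI])
    (by rw [Algebra.TensorProduct.one_def, LinearMap.lTensor_tmul, hI1]; rfl)
    (fun p => by
      induction p using TensorProduct.induction_on with
      | zero => simp
      | add a b ha hb => simp only [map_add, ha, hb]
      | tmul t p => simp [lv, hI₁₂])
    (fun p => by
      induction p using TensorProduct.induction_on with
      | zero => simp
      | add a b ha hb => simp only [map_add, ha, hb]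
      | tmul t p => simp [lv, hI₂₃])
    (fun p => by
      induction p using TensorProduct.induction_on with
      | zero => simp
      | add a b ha hb => simp only [map_add, ha, hb]
      | tmul t p => simp [lv, hIj])
    g (fun c => by
      refine mem_of_red_eq_zero hKJ ?_
      have e : ∀ h : A →ₐ[R] A ⊗[R] A, post (red (A ⊗[R] A) hKJ).toLinearMap (cv ((lv K h).comp g)) = cv ((lv J h).comp f₀) :=
        fun h => by
          rw [post_cv]
          congr 1
          rw [← hg]
          exact AlgHom.ext fun x => red_lv hKJ h (g x)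
      show post (red (A ⊗[R] A) hKJ).toLinearMap
        (cv ((lv K i₁).comp g) * cv ((lv K i₂).comp g) - cv ((lv K Δ).comp g)) c = 0
      rw [post_sub, post_mul, e, e, e, cv_mul, hf₀, sub_self]
      rfl)
  refine ⟨f', AlgHom.ext fun c => ?_, hcompat⟩
  have h0 : red A hKJ (f' c - g c) = 0 := by
    have hle : Ideal.map (algebraMap R ((R ⧸ K) ⊗[R] A)) J ≤ RingHom.ker (red A hKJ).toRingHom := by
      rw [Ideal.map_le_iff_le_comap]
      intro r hr
      show red A hKJ (algebraMap R _ r) = 0
      rw [AlgHom.commutes, IsScalarTower.algebraMap_apply R (R ⧸ J) ((R ⧸ J) ⊗[R] A), Ideal.Quotient.algebraMap_eq,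
        Ideal.Quotient.eq_zero_iff_mem.2 hr, map_zero]
    exact hle (hf' c)
  rw [map_sub, sub_eq_zero] at h0
  show red A hKJ (f' c) = f₀ c
  rw [h0, ← hg]
  rfl

theorem compat_of_bialgHom (I : Ideal R) (φ₀ : (R ⧸ I) ⊗[R] C →ₐc[R ⧸ I] (R ⧸ I) ⊗[R] A) :
    Compat A I (((φ₀ : (R ⧸ I) ⊗[R] C →ₐ[R ⧸ I] (R ⧸ I) ⊗[R] A).restrictScalars R).comp
      Algebra.TensorProduct.includeRight) := by
  let S := R ⧸ I
  let back : (S ⊗[R] A) ⊗[S] (S ⊗[R] A) →ₐ[S] S ⊗[R] (A ⊗[R] A) :=
    Algebra.TensorProduct.lift (Algebra.TensorProduct.map (AlgHom.id S S) Algebra.TensorProduct.includeLeft)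
      (Algebra.TensorProduct.map (AlgHom.id S S) Algebra.TensorProduct.includeRight) fun _ _ => Commute.all _ _
  have hbackD : ∀ a, back (Coalgebra.comul (R := S) a) = lv I (Bialgebra.comulAlgHom R A) a := by
    intro a
    induction a using TensorProduct.induction_on with
    | zero => simp
    | add x y hx hy => simp only [map_add, hx, hy]
    | tmul s a =>
      rw [TensorProduct.comul_tmul, CommSemiring.comul_apply]
      simp only [lv, Algebra.TensorProduct.map_tmul, AlgHom.id_apply, Bialgebra.comulAlgHom_apply]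
      generalize Coalgebra.comul (R := R) a = w
      induction w using TensorProduct.induction_on with
      | zero => simp
      | add x y hx hy => simp only [TensorProduct.tmul_add, map_add, hx, hy]
      | tmul x y =>
        simp [back, TensorProduct.AlgebraTensorModule.tensorTensorTensorComm_tmul, Algebra.TensorProduct.tmul_mul_tmul]
  have hbackm : ∀ x y, back (x ⊗ₜ[S] y) = lv I Algebra.TensorProduct.includeLeft x *
      lv I (Algebra.TensorProduct.includeRight : A →ₐ[R] A ⊗[R] A) y := fun x y => by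
    simp [back, lv]
    rfl
  apply WithConv.ofConv_injective
  refine AlgHom.ext fun c => ?_
  show _ = lv I (Bialgebra.comulAlgHom R A) (φ₀ ((1 : S) ⊗ₜ c))
  rw [← hbackD, ← CoalgHomClass.map_comp_comul_apply φ₀, TensorProduct.comul_tmul, CommSemiring.comul_apply,
    AlgHom.convMul_apply]
  generalize Coalgebra.comul (R := R) c = w
  induction w using TensorProduct.induction_on with
  | zero => simp
  | add x y hx hy => simp only [TensorProduct.tmul_add, map_add, hx, hy]
  | tmul x y =>
    simp only [TensorProduct.AlgebraTensorModule.tensorTensorTensorComm_tmul, TensorProduct.map_tmul,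
      Algebra.TensorProduct.lift_tmul]
    exact (hbackm _ _).symm

/-- A compatible map at the zero level is a bialgebra map. -/
theorem exists_bialgHom_of_compat (f : C →ₐ[R] A)
    (hf : toConv ((Algebra.TensorProduct.includeLeft : A →ₐ[R] A ⊗[R] A).comp f) *
      toConv ((Algebra.TensorProduct.includeRight : A →ₐ[R] A ⊗[R] A).comp f) =
        toConv ((Bialgebra.comulAlgHom R A).comp f)) : ∃ φ : C →ₐc[R] A, ∀ c, φ c = f c := by
  have hmap : (Algebra.TensorProduct.map f f).comp (Bialgebra.comulAlgHom R C) = (Bialgebra.comulAlgHom R A).comp f := by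
    have h := congrArg WithConv.ofConv hf
    simp only [ofConv_toConv] at h
    rw [← h]
    refine AlgHom.ext fun c => ?_
    rw [AlgHom.convMul_apply]
    show Algebra.TensorProduct.map f f (Coalgebra.comul (R := R) c) = _
    generalize Coalgebra.comul (R := R) c = w
    induction w using TensorProduct.induction_on with
    | zero => simp
    | add x y hx hy => simp only [map_add, hx, hy]
    | tmul x y => simp
  refine ⟨BialgHom.ofAlgHom f ?_ hmap, fun _ => rfl⟩
  let e : WithConv (C →ₐ[R] R) := toConv ((Bialgebra.counitAlgHom R A).comp f)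
  have he : e * e = e := by
    apply WithConv.ofConv_injective
    refine AlgHom.ext fun c => ?_
    rw [AlgHom.convMul_apply]
    have h := congrArg (fun z => (Algebra.TensorProduct.lift (Bialgebra.counitAlgHom R A) (Bialgebra.counitAlgHom R A)
      fun _ _ => Commute.all _ _) z) (AlgHom.congr_fun hmap c)
    simp only [AlgHom.comp_apply, Bialgebra.comulAlgHom_apply] at h
    refine Eq.trans ?_ (h.trans ?_)
    · generalize Coalgebra.comul (R := R) c = w
      induction w using TensorProduct.induction_on with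
      | zero => simp
      | add x y hx hy => simp only [map_add, hx, hy]
      | tmul x y => simp [e]
    · have := congrArg (TensorProduct.lid R R) (congrArg (LinearMap.lTensor R (Coalgebra.counit (R := R) (A := A)))
        (Coalgebra.rTensor_counit_comul (R := R) (f c) |> fun h => h))
      rw [LinearMap.lTensor_tmul, TensorProduct.lid_tmul, one_smul] at this
      refine Eq.trans ?_ this
      generalize Coalgebra.comul (R := R) (f c) = w
      induction w using TensorProduct.induction_on with
      | zero => simp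
      | add x y hx hy => simp only [map_add, hx, hy]
      | tmul x y => simp
  have : e = 1 := mul_left_cancel (he.trans (mul_one e).symm)
  exact (congrArg WithConv.ofConv this).trans (by rw [AlgHom.convOne_def]; rfl)

end Groth.Agent.HopfLift
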