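import Groth.Agent.HopfLiftLib.Nilpotent

set_option autoImplicit false

/-!
Relative lifting of homomorphisms from groups of multiplicative type into smooth groups.
-/

noncomputable section

universe u

open scoped TensorProduct
open WithConv

namespace Groth.Agent.HopfLift

variable {R : Type u} [CommRing R] {C : Type u} [CommRing C] [HopfAlgebra R C]

section Small

variable {X Y : Type u} [CommRing X] [Algebra R X] [CommRing Y] [Algebra R Y] {K L : Ideal R}

theorem cv_injective {f g : C →ₐ[R] X} (h : cv f = cv g) : f = g :=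
  AlgHom.toLinearMap_injective (congrArg WithConv.ofConv h)

theorem Small.add {a b : WithConv (C →ₗ[R] X)} (ha : Small K a) (hb : Small K b) : Small K (a + b) :=
  fun c => add_mem (ha c) (hb c)

theorem Small.sub {a b : WithConv (C →ₗ[R] X)} (ha : Small K a) (hb : Small K b) : Small K (a - b) :=
  fun c => sub_mem (ha c) (hb c)

theorem Small.mono (h : K ≤ L) {a : WithConv (C →ₗ[R] X)} (ha : Small K a) : Small L a :=
  fun c => Ideal.map_mono h (ha c)

theorem Small.mul_small {a b : WithConv (C →ₗ[R] X)} (ha : Small K a) (hb : Small L b) : Small (K * L) (a * b) := by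
  intro c
  rw [LinearMap.convMul_apply]
  generalize Coalgebra.comul (R := R) c = z
  induction z using TensorProduct.induction_on with
  | zero => simp
  | add p q hp hq => simp only [map_add]; exact add_mem hp hq
  | tmul p q =>
    simp only [TensorProduct.map_tmul, LinearMap.mul'_apply]
    rw [Ideal.map_mul]
    exact Ideal.mul_mem_mul (ha p) (hb q)

theorem mem_of_mem_map (φ : X →ₗ[R] R) {x : X} (hx : x ∈ Ideal.map (algebraMap R X) K) : φ x ∈ K := by
  have hx' : x ∈ K • (⊤ : Submodule R X) := by rw [Ideal.smul_top_eq_map]; exact hx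
  refine Submodule.smul_induction_on hx' (fun r hr n _ => ?_) fun a b ha hb => ?_
  · rw [map_smul, smul_eq_mul]
    exact Ideal.mul_mem_right _ _ hr
  · rw [map_add]
    exact add_mem ha hb

/-- A scalar valued algebra map as an element of the convolution ring. -/
def cη (X : Type u) [CommRing X] [Algebra R X] (g : C →ₐ[R] R) : WithConv (C →ₗ[R] X) :=
  cv ((Algebra.ofId R X).comp g)

theorem post_cη (F : X →ₐ[R] Y) (g : C →ₐ[R] R) : post F.toLinearMap (cη X g) = cη Y g := by
  rw [cη, post_cv, ← AlgHom.comp_assoc, cη, Subsingleton.elim (F.comp (Algebra.ofId R X)) (Algebra.ofId R Y)]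

theorem cη_mul_inv (g : C →ₐ[R] R) : cη X g * cη X (inv' g) = 1 := cv_mul_inv ((Algebra.ofId R X).comp g)

theorem cη_inv_mul (g : C →ₐ[R] R) : cη X (inv' g) * cη X g = 1 := cv_inv_mul ((Algebra.ofId R X).comp g)

end Small

section Alg

variable {A : Type u} [CommRing A] [Bialgebra R A]

theorem compat_bialgHom (φ : C →ₐc[R] A) :
    post (Algebra.TensorProduct.includeLeft : A →ₐ[R] A ⊗[R] A).toLinearMap (cv (φ : C →ₐ[R] A)) *
      post (Algebra.TensorProduct.includeRight : A →ₐ[R] A ⊗[R] A).toLinearMap (cv (φ : C →ₐ[R] A)) =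
        post (Bialgebra.comulAlgHom R A).toLinearMap (cv (φ : C →ₐ[R] A)) := by
  apply WithConv.ofConv_injective
  refine LinearMap.ext fun c => ?_
  rw [LinearMap.convMul_apply]
  show _ = Coalgebra.comul (R := R) (φ c)
  rw [← CoalgHomClass.map_comp_comul_apply φ]
  generalize Coalgebra.comul (R := R) c = w
  induction w using TensorProduct.induction_on with
  | zero => simp
  | add x y hx hy => simp only [map_add, hx, hy]
  | tmul x y => simp [post, cv]

/-- Conjugation of a homomorphism by a point. -/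
theorem exists_conj (g : C →ₐ[R] R) (γ : C →ₐc[R] A) :
    ∃ γ' : C →ₐc[R] A, cv (γ' : C →ₐ[R] A) = cη A g * cv (γ : C →ₐ[R] A) * cη A (inv' g) := by
  let f : C →ₐ[R] A := (toConv ((Algebra.ofId R A).comp g) * toConv (γ : C →ₐ[R] A) *
    toConv ((Algebra.ofId R A).comp (inv' g))).ofConv
  have hf : cv f = cη A g * cv (γ : C →ₐ[R] A) * cη A (inv' g) := by
    rw [cη, cη, cv_mul, cv_mul]
  have key : post (Algebra.TensorProduct.includeLeft : A →ₐ[R] A ⊗[R] A).toLinearMap (cv f) *
      post (Algebra.TensorProduct.includeRight : A →ₐ[R] A ⊗[R] A).toLinearMap (cv f) =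
        post (Bialgebra.comulAlgHom R A).toLinearMap (cv f) := by
    simp only [hf, post_mul, post_cη, ← compat_bialgHom]
    rw [mul_assoc (cη _ g * _) (cη _ (inv' g)), ← mul_assoc (cη _ (inv' g)), ← mul_assoc (cη _ (inv' g)), cη_inv_mul,
      one_mul]
    simp only [mul_assoc]
  obtain ⟨φ, hφ⟩ := exists_bialgHom_of_compat f (WithConv.ofConv_injective (cv_injective (by
    rw [post_cv, post_cv, post_cv, cv_mul] at key
    exact key)))
  refine ⟨φ, ?_⟩
  rw [← hf]
  exact congrArg cv (AlgHom.ext hφ)

/-- One step: agreement modulo `K` gives agreement modulo `K * K` after conjugation. -/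
theorem exists_conj_step [Algebra.FormallySmooth R C] {ι : A →ₗ[R] R} (hι : IsIntegral R ι) {K : Ideal R}
    (hK : IsNilpotent K) (f β : C →ₐc[R] A) (h : Small K (cv (f : C →ₐ[R] A) - cv (β : C →ₐ[R] A))) :
    ∃ g : C →ₐ[R] R, Small K (cη A g - 1) ∧ Small K (cη A (inv' g) - 1) ∧
      Small (K * K) (cη A g * cv (f : C →ₐ[R] A) * cη A (inv' g) - cv (β : C →ₐ[R] A)) := by
  let i₁ : A →ₐ[R] A ⊗[R] A := Algebra.TensorProduct.includeLeft
  let i₂ : A →ₐ[R] A ⊗[R] A := Algebra.TensorProduct.includeRight
  let Δ := Bialgebra.comulAlgHom R A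
  let E : A ⊗[R] A →ₗ[R] A := (TensorProduct.rid R A).toLinearMap ∘ₗ LinearMap.lTensor A ι
  have hE : ∀ b, E (Δ b) = ι b • (1 : A) := fun b => by
    have := congrArg (TensorProduct.lid R A) (hι.right b)
    rw [TensorProduct.lid_tmul] at this
    refine Eq.trans ?_ this
    show E (Coalgebra.comul (R := R) b) = _
    generalize Coalgebra.comul (R := R) b = w
    induction w using TensorProduct.induction_on with
    | zero => simp
    | add a c ha hc => simp only [map_add, ha, hc]
    | tmul a c => simp [E]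
  have hEl : ∀ x z, E (i₁ x * z) = x * E z := fun x z => by
    induction z using TensorProduct.induction_on with
    | zero => simp
    | add p q hp hq => simp only [mul_add, map_add, hp, hq]
    | tmul p q => simp [E, i₁]
  have hEm : ∀ (a : WithConv (C →ₗ[R] A)) w, post E (post i₁.toLinearMap a * w) = a * post E w := fun a w => by
    apply WithConv.ofConv_injective
    refine LinearMap.ext fun c => ?_
    show E ((post i₁.toLinearMap a * w) c) = (a * post E w) c
    rw [LinearMap.convMul_apply, LinearMap.convMul_apply]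
    generalize Coalgebra.comul (R := R) c = z
    induction z using TensorProduct.induction_on with
    | zero => simp
    | add p q hp hq => simp only [map_add, hp, hq]
    | tmul p q =>
      simp only [TensorProduct.map_tmul, LinearMap.mul'_apply]
      exact hEl (a p) (w q)
  have hEm' : ∀ (a : WithConv (C →ₗ[R] A)) w, post E (w * post i₁.toLinearMap a) = post E w * a := fun a w => by
    apply WithConv.ofConv_injective
    refine LinearMap.ext fun c => ?_
    show E ((w * post i₁.toLinearMap a) c) = (post E w * a) c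
    rw [LinearMap.convMul_apply, LinearMap.convMul_apply]
    generalize Coalgebra.comul (R := R) c = z
    induction z using TensorProduct.induction_on with
    | zero => simp
    | add p q hp hq => simp only [map_add, hp, hq]
    | tmul p q =>
      simp only [TensorProduct.map_tmul, LinearMap.mul'_apply]
      show E (w p * i₁ (a q)) = E (w p) * a q
      rw [mul_comm, hEl, mul_comm]
  let F := cv (f : C →ₐ[R] A)
  let F' := cv (inv' (f : C →ₐ[R] A))
  have hFF : F * F' = 1 := cv_mul_inv _
  have hFF' : F' * F = 1 := cv_inv_mul _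
  let h' : C →ₐ[R] A := (toConv (β : C →ₐ[R] A) * toConv (inv' (f : C →ₐ[R] A))).ofConv
  have hh : cv h' = cv (β : C →ₐ[R] A) * F' := (cv_mul _ _).symm
  let d := cv h' - 1
  have hd : Small K d := by
    have e : d = -((cv (f : C →ₐ[R] A) - cv (β : C →ₐ[R] A)) * F') := by
      show cv h' - 1 = _
      rw [hh, sub_mul, neg_sub]
      exact congrArg (cv (β : C →ₐ[R] A) * F' - ·) hFF.symm
    rw [e]
    exact fun c => neg_mem (h.mul_right F' c)
  have hdc : ∀ c, h' c = algebraMap R A (Coalgebra.counit (R := R) c) + d c := fun c => by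
    show _ = _ + (h' c - (1 : WithConv (C →ₗ[R] A)) c)
    rw [LinearMap.convOne_apply]
    ring
  -- the point
  let J := K * K
  let gbl : C →ₗ[R] R ⧸ J := (Ideal.Quotient.mkₐ R J).toLinearMap ∘ₗ ι ∘ₗ h'.toLinearMap
  have hι1 : ∀ r, ι (algebraMap R A r) = r := fun r => by
    rw [Algebra.algebraMap_eq_smul_one, map_smul, hι.one, smul_eq_mul, mul_one]
  let gb : C →ₐ[R] R ⧸ J := AlgHom.ofLinearMap gbl
    (by show Ideal.Quotient.mk J (ι (h' 1)) = 1; rw [map_one, hι.one, map_one])
    (fun x y => by
      show Ideal.Quotient.mk J (ι (h' (x * y))) = Ideal.Quotient.mk J (ι (h' x)) * Ideal.Quotient.mk J (ι (h' y))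
      rw [← map_mul (Ideal.Quotient.mk J), Ideal.Quotient.eq, map_mul, hdc x, hdc y]
      have e1 : ι (d x * d y) ∈ J := mem_of_mem_map ι (by rw [Ideal.map_mul]; exact Ideal.mul_mem_mul (hd x) (hd y))
      have e2 : ι (d x) * ι (d y) ∈ J := Ideal.mul_mem_mul (mem_of_mem_map ι (hd x)) (mem_of_mem_map ι (hd y))
      convert sub_mem e1 e2 using 1
      simp only [mul_add, add_mul, map_add, hι1, ← map_mul (algebraMap R A), ← Algebra.smul_def,
        mul_comm (d x) (algebraMap R A _), map_smul, smul_eq_mul]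
      ring)
  have hnil : IsNilpotent (RingHom.ker (Ideal.Quotient.mkₐ R J).toRingHom) := by
    obtain ⟨n, hn⟩ := hK
    refine ⟨n, le_bot_iff.1 ?_⟩
    rw [show RingHom.ker (Ideal.Quotient.mkₐ R J).toRingHom = J from Ideal.Quotient.mkₐ_ker R J]
    exact (Ideal.pow_right_mono Ideal.mul_le_left n).trans hn.le
  let g := Algebra.FormallySmooth.liftOfSurjective (R := R) gb (Ideal.Quotient.mkₐ R J) Ideal.Quotient.mk_surjective hnil
  have hg : ∀ c, g c - ι (h' c) ∈ J := fun c => Ideal.Quotient.eq.1
    (DFunLike.congr_fun (Algebra.FormallySmooth.comp_liftOfSurjective gb (Ideal.Quotient.mkₐ R J)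
      Ideal.Quotient.mk_surjective hnil) c)
  let l : WithConv (C →ₗ[R] A) := post (Algebra.linearMap R A ∘ₗ ι) d
  have hl : Small K l := hd.post _
  let G := cη A g
  let G' := cη A (inv' g)
  let s := G - 1 - l
  have hs : Small J s := fun c => by
    have e : s c = algebraMap R A (g c - ι (h' c)) := by
      show algebraMap R A (g c) - (1 : WithConv (C →ₗ[R] A)) c - algebraMap R A (ι (d c)) = _
      rw [LinearMap.convOne_apply, hdc c, map_add, hι1, map_sub, map_add, sub_sub]
    rw [e]
    exact Ideal.mem_map_of_mem _ (hg c)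
  have hll : Small J (l * l) := hl.mul_small hl
  let s' := G' - (1 - l)
  have hs' : Small J s' := by
    have e : s' = G' * (l * l - s * (1 - l)) := by
      have h1 : G' * G = 1 := cη_inv_mul g
      show G' - (1 - l) = _
      calc G' - (1 - l) = G' - G' * G * (1 - l) := by rw [h1, one_mul]
        _ = G' * (l * l - s * (1 - l)) := by simp only [s]; noncomm_ring
    rw [e]
    exact (hll.sub (hs.mul_right _)).mul_left _
  -- the averaged identity
  have hid : Small J (l - d - F * l * F') := by
    have hi₁ := compat_bialgHom β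
    have hi₂ := compat_bialgHom f
    have hΔ : post Δ.toLinearMap (cv h') =
        post i₁.toLinearMap (cv h') * post i₁.toLinearMap F * post i₂.toLinearMap (cv h') * post i₁.toLinearMap F' := by
      have hinv : post Δ.toLinearMap F' = post i₂.toLinearMap F' * post i₁.toLinearMap F' := by
        refine (left_inv_eq_right_inv (a := post Δ.toLinearMap F) ?_ ?_)
        · rw [← post_mul, hFF', post_one]
        · rw [show post Δ.toLinearMap F = post i₁.toLinearMap F * post i₂.toLinearMap F from hi₂.symm, mul_assoc,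
            ← mul_assoc (post i₂.toLinearMap F), ← post_mul i₂, hFF, post_one, one_mul, ← post_mul, hFF, post_one]
      rw [hh, post_mul, post_mul, post_mul, hinv,
        show post Δ.toLinearMap (cv (β : C →ₐ[R] A)) = post i₁.toLinearMap (cv (β : C →ₐ[R] A)) *
          post i₂.toLinearMap (cv (β : C →ₐ[R] A)) from hi₁.symm]
      rw [mul_assoc (post i₁.toLinearMap (cv (β : C →ₐ[R] A))) (post i₁.toLinearMap F') (post i₁.toLinearMap F),
        ← post_mul i₁ F' F, hFF', post_one, mul_one]
      simp only [mul_assoc]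
    let d₁ := post i₁.toLinearMap d
    let d₂ := post i₂.toLinearMap d
    have hone : ∀ (P : A →ₐ[R] A ⊗[R] A), post P.toLinearMap (cv h') = 1 + post P.toLinearMap d := fun P => by
      show _ = 1 + post P.toLinearMap (cv h' - 1)
      rw [post_sub, post_one]
      abel
    have h1 : post Δ.toLinearMap d = d₁ + post i₁.toLinearMap F * d₂ * post i₁.toLinearMap F' +
        d₁ * (post i₁.toLinearMap F * d₂ * post i₁.toLinearMap F') := by
      rw [hone, hone, hone] at hΔ
      have hF : post i₁.toLinearMap F * post i₁.toLinearMap F' = 1 := by rw [← post_mul, hFF, post_one]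
      have h2 := eq_sub_of_add_eq' hΔ
      rw [h2]
      calc _ = (1 + d₁) * (post i₁.toLinearMap F * post i₁.toLinearMap F' +
            post i₁.toLinearMap F * d₂ * post i₁.toLinearMap F') - 1 := by noncomm_ring
        _ = _ := by rw [hF]; noncomm_ring
    have h3 : Small J (d₁ * (post i₁.toLinearMap F * d₂ * post i₁.toLinearMap F')) :=
      (hd.post _).mul_small (((hd.post _).mul_left _).mul_right _)
    have h4 := h3.post E
    have eΔ : post E (post Δ.toLinearMap d) = l := by
      apply WithConv.ofConv_injective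
      refine LinearMap.ext fun c => ?_
      show E (Δ (d c)) = algebraMap R A (ι (d c))
      rw [hE, Algebra.algebraMap_eq_smul_one]
    have e₁ : post E d₁ = d := by
      apply WithConv.ofConv_injective
      refine LinearMap.ext fun c => ?_
      show E (i₁ (d c)) = d c
      simp [E, i₁, hι.one]
    have e₂ : post E d₂ = l := by
      apply WithConv.ofConv_injective
      refine LinearMap.ext fun c => ?_
      show E (i₂ (d c)) = algebraMap R A (ι (d c))
      simp [E, i₂, Algebra.algebraMap_eq_smul_one]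
    have h5 := congrArg (post E) h1
    rw [eΔ, post_add, post_add, e₁, hEm', hEm, e₂] at h5
    have e : l - d - F * l * F' = post E (d₁ * (post i₁.toLinearMap F * d₂ * post i₁.toLinearMap F')) :=
      (sub_sub l d _).trans (sub_eq_iff_eq_add'.2 h5)
    rw [e]
    exact h4
  refine ⟨g, ?_, ?_, ?_⟩
  · have e : G - 1 = l + s := by simp only [s]; abel
    show Small K (G - 1)
    rw [e]
    exact hl.add (hs.mono Ideal.mul_le_left)
  · have e : G' - 1 = s' - l := by simp only [s']; abel
    show Small K (G' - 1)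
    rw [e]
    exact (hs'.mono Ideal.mul_le_left).sub hl
  · show Small J (G * F * G' - cv (β : C →ₐ[R] A))
    have hβ : cv (β : C →ₐ[R] A) = (1 + d) * F := by
      show _ = (1 + (cv h' - 1)) * F
      rw [add_sub_cancel, hh, mul_assoc, hFF', mul_one]
    have e : G * F * G' - cv (β : C →ₐ[R] A) =
        s * (F * G') + (1 + l) * F * s' + ((l - d - F * l * F') * F - l * F * l) := by
      rw [hβ]
      have : F * l * F' * F = F * l := by rw [mul_assoc, hFF', mul_one]
      simp only [s, s', sub_mul, this]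
      noncomm_ring
    rw [e]
    exact ((hs.mul_right _).add (hs'.mul_left _)).add
      ((hid.mul_right _).sub ((hl.mul_right F).mul_small hl))

end Alg

/-- Relative lifting of homomorphisms into a smooth group along a nilpotent ideal. -/
theorem exists_lift_relative [Algebra.FormallySmooth R C] {A₁ A₂ : Type u} [CommRing A₁] [Bialgebra R A₁] [CommRing A₂]
    [Bialgebra R A₂] {ι₁ : A₁ →ₗ[R] R} (hι₁ : IsIntegral R ι₁) {ι₂ : A₂ →ₗ[R] R} (hι₂ : IsIntegral R ι₂)
    (I : Ideal R) (hI : IsNilpotent I) (α : A₂ →ₐc[R] A₁) (β : C →ₐc[R] A₁)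
    (γ₀ : (R ⧸ I) ⊗[R] C →ₐc[R ⧸ I] (R ⧸ I) ⊗[R] A₂)
    (h0 : ∀ c : C, Algebra.TensorProduct.map (AlgHom.id (R ⧸ I) (R ⧸ I)) (α : A₂ →ₐ[R] A₁)
      (γ₀ ((1 : R ⧸ I) ⊗ₜ[R] c)) = (1 : R ⧸ I) ⊗ₜ[R] (β c)) :
    ∃ γ : C →ₐc[R] A₂, (∀ c : C, γ₀ ((1 : R ⧸ I) ⊗ₜ[R] c) = (1 : R ⧸ I) ⊗ₜ[R] (γ c)) ∧ ∀ c : C, α (γ c) = β c := by
  obtain ⟨γ', hγ'⟩ := exists_lift_of_isNilpotent hι₂ I hI γ₀
  have key : ∀ k : ℕ, ∃ γ : C →ₐc[R] A₂, Small I (cv (γ : C →ₐ[R] A₂) - cv (γ' : C →ₐ[R] A₂)) ∧
      Small (I ^ 2 ^ k) (cv ((α.comp γ : C →ₐc[R] A₁) : C →ₐ[R] A₁) - cv (β : C →ₐ[R] A₁)) := by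
    intro k
    induction k with
    | zero =>
      refine ⟨γ', fun c => ?_, fun c => ?_⟩
      · show γ' c - γ' c ∈ _
        rw [sub_self]
        exact zero_mem _
      · rw [pow_zero, pow_one]
        show α (γ' c) - β c ∈ _
        rw [← one_tmul_eq_zero_iff, TensorProduct.tmul_sub, ← h0 c, hγ' c, sub_eq_zero]
        rfl
    | succ k ih =>
      obtain ⟨γ, hγ, hd⟩ := ih
      have hle : I ^ 2 ^ k ≤ I := Ideal.pow_le_self (pow_ne_zero k two_ne_zero)
      have hnil : IsNilpotent (I ^ 2 ^ k) := by
        obtain ⟨n, hn⟩ := hI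
        exact ⟨n, le_bot_iff.1 ((Ideal.pow_right_mono hle n).trans hn.le)⟩
      obtain ⟨g, hg, hg', hstep⟩ := exists_conj_step hι₁ hnil (α.comp γ) β hd
      obtain ⟨γn, hγn⟩ := exists_conj g γ
      refine ⟨γn, ?_, ?_⟩
      · have e : cv (γn : C →ₐ[R] A₂) - cv (γ' : C →ₐ[R] A₂) =
            (cη A₂ g - 1) * (cv (γ : C →ₐ[R] A₂) * cη A₂ (inv' g)) + cv (γ : C →ₐ[R] A₂) * (cη A₂ (inv' g) - 1) +
              (cv (γ : C →ₐ[R] A₂) - cv (γ' : C →ₐ[R] A₂)) := by
          rw [hγn]; noncomm_ring
        rw [e]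
        have h1 : Small I (cη A₂ g - 1) := fun c => by
          have h := hg.mono hle c
          show algebraMap R A₂ (g c) - (1 : WithConv (C →ₗ[R] A₂)) c ∈ _
          rw [LinearMap.convOne_apply, ← map_sub]
          refine Ideal.mem_map_of_mem _ ?_
          have := mem_of_mem_map ι₁ (show algebraMap R A₁ (g c) - (1 : WithConv (C →ₗ[R] A₁)) c ∈ _ from h)
          rwa [LinearMap.convOne_apply, ← map_sub, Algebra.algebraMap_eq_smul_one, map_smul, hι₁.one, smul_eq_mul,
            mul_one] at this
        have h2 : Small I (cη A₂ (inv' g) - 1) := fun c => by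
          have h := hg'.mono hle c
          show algebraMap R A₂ (inv' g c) - (1 : WithConv (C →ₗ[R] A₂)) c ∈ _
          rw [LinearMap.convOne_apply, ← map_sub]
          refine Ideal.mem_map_of_mem _ ?_
          have := mem_of_mem_map ι₁ (show algebraMap R A₁ (inv' g c) - (1 : WithConv (C →ₗ[R] A₁)) c ∈ _ from h)
          rwa [LinearMap.convOne_apply, ← map_sub, Algebra.algebraMap_eq_smul_one, map_smul, hι₁.one, smul_eq_mul,
            mul_one] at this
        exact ((h1.mul_right _).add (h2.mul_left _)).add hγ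
      · have e : cv ((α.comp γn : C →ₐc[R] A₁) : C →ₐ[R] A₁) =
            cη A₁ g * cv ((α.comp γ : C →ₐc[R] A₁) : C →ₐ[R] A₁) * cη A₁ (inv' g) := by
          rw [show cv ((α.comp γn : C →ₐc[R] A₁) : C →ₐ[R] A₁) = post (α : A₂ →ₐ[R] A₁).toLinearMap
            (cv (γn : C →ₐ[R] A₂)) from rfl, hγn, post_mul, post_mul, post_cη, post_cη]
          rfl
        rw [e, pow_succ, pow_mul, sq]
        exact hstep
  obtain ⟨N, hN⟩ := hI
  obtain ⟨γ, hγ, hd⟩ := key N
  refine ⟨γ, fun c => ?_, fun c => ?_⟩
  · rw [hγ' c, eq_comm, ← sub_eq_zero, ← TensorProduct.tmul_sub, one_tmul_eq_zero_iff]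
    exact hγ c
  · have h := hd c
    rw [show I ^ 2 ^ N = ⊥ from le_bot_iff.1 ((Ideal.pow_le_pow_right Nat.lt_two_pow_self.le).trans hN.le),
      Ideal.map_bot, Submodule.mem_bot] at h
    exact sub_eq_zero.1 h

end Groth.Agent.HopfLift
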