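import Groth.Agent.HopfLiftLib.Nilpotent
import Mathlib.RingTheory.Flat.Basic

set_option autoImplicit false

/-!
Uniform bound of the weights of approximate homomorphisms from a smooth group into a diagonalisable one.
-/

noncomputable section

universe u

open scoped TensorProduct

namespace Groth.Agent.HopfLift

variable {R : Type u} [CommRing R] {C : Type u} [CommRing C] [Bialgebra R C]

theorem exists_fg_right {N : Type u} [AddCommGroup N] [Module R N] (z : N ⊗[R] C) :
    ∃ Q : Submodule R C, Q.FG ∧ z ∈ LinearMap.range (LinearMap.lTensor N Q.subtype) := by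
  induction z using TensorProduct.induction_on with
  | zero => exact ⟨⊥, Submodule.fg_bot, zero_mem _⟩
  | tmul n q =>
    exact ⟨Submodule.span R {q}, Submodule.fg_span_singleton q, n ⊗ₜ ⟨q, Submodule.mem_span_singleton_self q⟩, rfl⟩
  | add a b ha hb =>
    obtain ⟨Qa, h1, za, rfl⟩ := ha
    obtain ⟨Qb, h2, zb, rfl⟩ := hb
    refine ⟨Qa ⊔ Qb, h1.sup h2, LinearMap.lTensor N (Submodule.inclusion le_sup_left) za +
      LinearMap.lTensor N (Submodule.inclusion le_sup_right) zb, ?_⟩
    simp only [map_add, ← LinearMap.comp_apply, ← LinearMap.lTensor_comp, Submodule.subtype_comp_inclusion]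

/-- An element of a flat coalgebra over a noetherian ring lies in a finitely generated subcomodule. -/
theorem exists_fg_subcomodule [IsNoetherianRing R] [Module.Flat R C] (c : C) :
    ∃ N Q : Submodule R C, N.FG ∧ Q.FG ∧ c ∈ N ∧
      ∀ x ∈ N, Coalgebra.comul (R := R) x ∈ LinearMap.range (TensorProduct.map N.subtype Q.subtype) := by
  classical
  obtain ⟨W, hW, hcW⟩ : ∃ W : Submodule R C, W.FG ∧
      Coalgebra.comul (R := R) c ∈ LinearMap.range (LinearMap.rTensor C W.subtype) := by
    generalize Coalgebra.comul (R := R) c = z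
    induction z using TensorProduct.induction_on with
    | zero => exact ⟨⊥, Submodule.fg_bot, zero_mem _⟩
    | tmul n q =>
      exact ⟨Submodule.span R {n}, Submodule.fg_span_singleton n, ⟨n, Submodule.mem_span_singleton_self n⟩ ⊗ₜ q, rfl⟩
    | add a b ha hb =>
      obtain ⟨Qa, h1, za, rfl⟩ := ha
      obtain ⟨Qb, h2, zb, rfl⟩ := hb
      refine ⟨Qa ⊔ Qb, h1.sup h2, LinearMap.rTensor C (Submodule.inclusion le_sup_left) za +
        LinearMap.rTensor C (Submodule.inclusion le_sup_right) zb, ?_⟩
      simp only [map_add, ← LinearMap.comp_apply, ← LinearMap.rTensor_comp, Submodule.subtype_comp_inclusion]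
  let WC := LinearMap.range (LinearMap.rTensor C W.subtype)
  let π : C →ₗ[R] (C ⊗[R] C) ⧸ WC := WC.mkQ ∘ₗ Coalgebra.comul
  let N := LinearMap.ker π
  have hmemN : ∀ x, x ∈ N ↔ Coalgebra.comul (R := R) x ∈ WC := fun x => Submodule.Quotient.mk_eq_zero _
  have hNW : N ≤ W := fun x hx => by
    obtain ⟨z, hz⟩ := (hmemN x).1 hx
    have h1 := congrArg (TensorProduct.rid R C) (Coalgebra.lTensor_counit_comul (R := R) x)
    rw [TensorProduct.rid_tmul, one_smul, ← hz] at h1
    rw [← h1]
    clear h1 hz
    induction z using TensorProduct.induction_on with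
    | zero => simp
    | add a b ha hb => simp only [map_add]; exact add_mem ha hb
    | tmul w q => simpa using W.smul_mem _ w.2
  have hNfg : N.FG := by
    haveI : Module.Finite R W := Module.Finite.iff_fg.2 hW
    have h : (N.comap W.subtype).FG := IsNoetherian.noetherian _
    have := h.map W.subtype
    rwa [Submodule.map_comap_subtype, inf_eq_right.2 hNW] at this
  have key : ∀ x ∈ N, Coalgebra.comul (R := R) x ∈ LinearMap.range (LinearMap.rTensor C N.subtype) := by
    intro x hx
    refine ((Module.Flat.rTensor_exact C (LinearMap.exact_subtype_ker_map π)) _).1 ?_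
    obtain ⟨z, hz⟩ := (hmemN x).1 hx
    rw [show LinearMap.rTensor C π = LinearMap.rTensor C WC.mkQ ∘ₗ LinearMap.rTensor C Coalgebra.comul from
      LinearMap.rTensor_comp C _ _, LinearMap.comp_apply, ← Coalgebra.coassoc_symm_apply, ← hz]
    clear hz
    induction z using TensorProduct.induction_on with
    | zero => simp
    | add a b ha hb => simp only [map_add, ha, hb, add_zero]
    | tmul w q =>
      simp only [LinearMap.rTensor_tmul, LinearMap.lTensor_tmul]
      generalize Coalgebra.comul (R := R) q = v
      induction v using TensorProduct.induction_on with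
      | zero => simp
      | add a b ha hb => simp only [TensorProduct.tmul_add, map_add, ha, hb, add_zero]
      | tmul p r =>
        rw [TensorProduct.assoc_symm_tmul, LinearMap.rTensor_tmul,
          show WC.mkQ (W.subtype w ⊗ₜ[R] p) = 0 from (Submodule.Quotient.mk_eq_zero _).2 ⟨w ⊗ₜ p, rfl⟩,
          TensorProduct.zero_tmul]
  -- a finite right factor
  have main : ∀ s : Finset C, (↑s ⊆ (N : Set C)) → ∃ Q : Submodule R C, Q.FG ∧
      ∀ x ∈ s, Coalgebra.comul (R := R) x ∈ LinearMap.range (TensorProduct.map N.subtype Q.subtype) := by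
    intro s
    induction s using Finset.induction_on with
    | empty => exact fun _ => ⟨⊥, Submodule.fg_bot, by simp⟩
    | insert a s _ ih =>
      intro hsub
      rw [Finset.coe_insert, Set.insert_subset_iff] at hsub
      obtain ⟨Q, hQ, hs⟩ := ih hsub.2
      obtain ⟨z, hz⟩ := key a hsub.1
      obtain ⟨Q', hQ', w, rfl⟩ := exists_fg_right z
      have hmono : ∀ {Q₀ : Submodule R C} (_ : Q₀ ≤ Q ⊔ Q'),
          LinearMap.range (TensorProduct.map N.subtype Q₀.subtype) ≤
            LinearMap.range (TensorProduct.map N.subtype (Q ⊔ Q').subtype) := fun {Q₀} h => by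
        rintro _ ⟨v, rfl⟩
        refine ⟨LinearMap.lTensor N (Submodule.inclusion h) v, ?_⟩
        rw [← LinearMap.comp_apply, LinearMap.map_comp_lTensor]
        rfl
      refine ⟨Q ⊔ Q', hQ.sup hQ', fun x hx => ?_⟩
      rcases Finset.mem_insert.1 hx with rfl | hx
      · refine hmono le_sup_right ⟨w, ?_⟩
        rw [← hz, ← LinearMap.comp_apply, LinearMap.rTensor_comp_lTensor]
      · exact hmono le_sup_left (hs x hx)
  obtain ⟨s, hs⟩ := hNfg
  obtain ⟨Q, hQ, hsQ⟩ := main s (hs ▸ Submodule.subset_span)
  refine ⟨N, Q, ⟨s, hs⟩, hQ, (hmemN c).2 hcW, fun x hx => ?_⟩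
  have hle : Submodule.span R (s : Set C) ≤
      (LinearMap.range (TensorProduct.map N.subtype Q.subtype)).comap Coalgebra.comul :=
    Submodule.span_le.2 hsQ
  exact hle (hs.symm ▸ hx)

/-- A weight which is small on the factors of a subcomodule vanishes on it. -/
theorem eq_zero_of_small {I : Ideal R} {K : Type u} [CommRing K] [Algebra R K] {r : ℕ}
    (hr : Ideal.map (algebraMap R K) (I ^ r) = ⊥) (w : C →ₗ[R] K)
    (hw : ∀ x, LinearMap.mul' R K (TensorProduct.map w w (Coalgebra.comul (R := R) x)) = w x)
    {N Q : Submodule R C}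
    (hN : ∀ x ∈ N, Coalgebra.comul (R := R) x ∈ LinearMap.range (TensorProduct.map N.subtype Q.subtype))
    (hQ : ∀ q ∈ Q, w q ∈ I • (⊤ : Submodule R K)) : ∀ x ∈ N, w x = 0 := by
  let Φ : C →ₗ[R] K ⊗[R] C := (TensorProduct.comm R C K).toLinearMap ∘ₗ LinearMap.lTensor C w ∘ₗ Coalgebra.comul
  let P : K ⊗[R] C →ₗ[R] K ⊗[R] C :=
    LinearMap.rTensor C (LinearMap.mul' R K) ∘ₗ (TensorProduct.assoc R K K C).symm.toLinearMap ∘ₗ LinearMap.lTensor K Φ
  have hP : ∀ (t : K) (x : C), P (t ⊗ₜ x) =
      LinearMap.rTensor C (LinearMap.mulLeft R t) (Φ x) := fun t x => by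
    simp only [P, LinearMap.comp_apply, LinearMap.lTensor_tmul, LinearEquiv.coe_coe]
    generalize Φ x = v
    induction v using TensorProduct.induction_on with
    | zero => simp
    | add a b ha hb => simp only [TensorProduct.tmul_add, map_add, ha, hb]
    | tmul p q => simp
  have hPP : ∀ z, P (P z) = P z := by
    intro z
    induction z using TensorProduct.induction_on with
    | zero => simp
    | add a b ha hb => simp only [map_add, ha, hb]
    | tmul t x =>
      let F : (C ⊗[R] C) ⊗[R] C →ₗ[R] K ⊗[R] C :=
        LinearMap.rTensor C (LinearMap.mulLeft R t) ∘ₗ (TensorProduct.comm R C K).toLinearMap ∘ₗ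
          LinearMap.lTensor C (LinearMap.mul' R K ∘ₗ TensorProduct.map w w) ∘ₗ (TensorProduct.assoc R C C C).toLinearMap
      have h1 : P (P (t ⊗ₜ x)) = F (LinearMap.rTensor C Coalgebra.comul (Coalgebra.comul (R := R) x)) := by
        rw [hP]
        simp only [Φ, LinearMap.comp_apply, LinearEquiv.coe_coe]
        generalize Coalgebra.comul (R := R) x = v
        induction v using TensorProduct.induction_on with
        | zero => simp
        | add a b ha hb => simp only [map_add, ha, hb]
        | tmul p q =>
          simp only [LinearMap.lTensor_tmul, TensorProduct.comm_tmul, LinearMap.rTensor_tmul, LinearMap.mulLeft_apply, hP]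
          simp only [Φ, LinearMap.comp_apply, LinearEquiv.coe_coe]
          generalize Coalgebra.comul (R := R) p = v'
          induction v' using TensorProduct.induction_on with
          | zero => simp [F]
          | add a b ha hb => simp only [TensorProduct.add_tmul, map_add, ha, hb]
          | tmul a b => simp [F, mul_comm, mul_assoc]
      rw [h1, ← Coalgebra.coassoc_symm_apply, hP]
      simp only [F, Φ, LinearMap.comp_apply, LinearEquiv.coe_coe, LinearEquiv.apply_symm_apply]
      rw [← LinearMap.comp_apply (LinearMap.lTensor C _), ← LinearMap.lTensor_comp,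
        show (LinearMap.mul' R K ∘ₗ TensorProduct.map w w) ∘ₗ Coalgebra.comul = w from LinearMap.ext hw]
  let W : Submodule R (K ⊗[R] C) := LinearMap.range (LinearMap.lTensor K N.subtype)
  have hPW : Submodule.map P W ≤ I • W := by
    rintro _ ⟨_, ⟨z, rfl⟩, rfl⟩
    induction z using TensorProduct.induction_on with
    | zero => simp
    | add a b ha hb => simp only [map_add]; exact add_mem ha hb
    | tmul t n =>
      rw [LinearMap.lTensor_tmul, hP]
      obtain ⟨v, hv⟩ := hN n n.2
      simp only [Φ, LinearMap.comp_apply, LinearEquiv.coe_coe, Submodule.subtype_apply, ← hv]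
      clear hv
      induction v using TensorProduct.induction_on with
      | zero => simp
      | add a b ha hb => simp only [map_add]; exact add_mem ha hb
      | tmul a q =>
        simp only [TensorProduct.map_tmul, LinearMap.lTensor_tmul, Submodule.subtype_apply, TensorProduct.comm_tmul,
          LinearMap.rTensor_tmul, LinearMap.mulLeft_apply]
        refine Submodule.smul_induction_on (hQ q q.2) (fun i hi k _ => ?_) fun k k' hk hk' => ?_
        · rw [mul_smul_comm, ← TensorProduct.smul_tmul']
          exact Submodule.smul_mem_smul hi ⟨(t * k) ⊗ₜ a, rfl⟩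
        · rw [mul_add, TensorProduct.add_tmul]
          exact add_mem hk hk'
  have hpow : ∀ n : ℕ, Submodule.map P W ≤ I ^ n • W := by
    intro n
    induction n with
    | zero =>
      rw [Submodule.pow_zero, Ideal.one_eq_top, Submodule.top_smul]
      exact hPW.trans Submodule.smul_le_right
    | succ n ih =>
      calc Submodule.map P W = Submodule.map P (Submodule.map P W) := by
            rw [← Submodule.map_comp, show P ∘ₗ P = P from LinearMap.ext hPP]
        _ ≤ Submodule.map P (I ^ n • W) := Submodule.map_mono ih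
        _ = I ^ n • Submodule.map P W := Submodule.map_smul'' _ _ _
        _ ≤ I ^ n • (I • W) := Submodule.smul_mono le_rfl hPW
        _ = I ^ (n + 1) • W := by rw [← Submodule.mul_smul, ← pow_succ]
  intro x hx
  have h0 : P ((1 : K) ⊗ₜ[R] x) = 0 := by
    have hm : P ((1 : K) ⊗ₜ[R] x) ∈ I ^ r • W := hpow r ⟨_, ⟨(1 : K) ⊗ₜ[R] ⟨x, hx⟩, rfl⟩, rfl⟩
    have hbot : I ^ r • (⊤ : Submodule R (K ⊗[R] C)) ≤ ⊥ := by
      rw [Submodule.smul_le]
      intro i hi z _
      rw [Submodule.mem_bot]
      induction z using TensorProduct.induction_on with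
      | zero => simp
      | add a b ha hb => rw [smul_add, ha trivial, hb trivial, add_zero]
      | tmul a b =>
        have : algebraMap R K i = 0 := (Submodule.mem_bot K).1 (hr ▸ Ideal.mem_map_of_mem _ hi)
        rw [TensorProduct.smul_tmul', Algebra.smul_def, this, zero_mul, TensorProduct.zero_tmul]
    simpa using hbot (Submodule.smul_mono le_rfl le_top hm)
  have h1 := congrArg (fun v => TensorProduct.rid R K (LinearMap.lTensor K Coalgebra.counit v)) h0
  simp only [map_zero, hP, Φ, LinearMap.comp_apply, LinearEquiv.coe_coe] at h1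
  refine Eq.trans ?_ h1
  have h2 := congrArg (fun v => w (TensorProduct.lid R C v)) (Coalgebra.rTensor_counit_comul (R := R) x)
  simp only [TensorProduct.lid_tmul, one_smul] at h2
  refine h2.symm.trans ?_
  generalize Coalgebra.comul (R := R) x = v
  induction v using TensorProduct.induction_on with
  | zero => simp
  | add a b ha hb => simp only [map_add, ha, hb]
  | tmul a b => simp

end Groth.Agent.HopfLift
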